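import Mathlib
import Groth.Agent.Lib.Helper5.Curve3.TwoCover

/-!
# The two-cover invertible module, with its local generator.
-/

set_option autoImplicit false
universe u
open CategoryTheory CategoryTheory.Limits AlgebraicGeometry TopologicalSpace Opposite

namespace Groth.Agent.H5.Curve4

open Groth.Agent.LD Groth.Agent.LD.QC Groth.Agent.H5.Glue Groth.Agent.H5.Curve3

variable {X : Scheme.{u}}

/-- **the invertible module `O(D)` of a local equation `f` on `V₀`, invertible on `U₀ ⊓ V₀`,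
with its canonical section, which is `f` times a generator over `V₀`.** -/
theorem exists_invertible_of_two_cover' (U₀ V₀ : X.Opens) (hcov : U₀ ⊔ V₀ = ⊤) (f : Γ(X, V₀))
    (hu : IsUnit (res (inf_le_right : U₀ ⊓ V₀ ≤ V₀) f)) :
    ∃ (L : X.Modules) (s : unitMod X ⟶ L), PicF.IsInvertible L ∧ U₀ ≤ CohB1.genLocus L s ∧
      ∃ e : Γ(L, V₀), IsBasisOver L V₀ e ∧ SecTwist.val s V₀ = f • e := by
  obtain ⟨w, hw⟩ := hu
  have huv : res (inf_le_right : U₀ ⊓ V₀ ≤ V₀) f * ((w⁻¹ : (Γ(X, U₀ ⊓ V₀))ˣ) : Γ(X, U₀ ⊓ V₀)) = 1 := by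
    rw [← hw]; exact w.mul_inv
  have hcoc := isCocycle_η2 U₀ V₀ _ _ huv
  have hunit : ∀ i, IsUnit (η2 U₀ V₀ (res (inf_le_right : U₀ ⊓ V₀ ≤ V₀) f)
      ((w⁻¹ : (Γ(X, U₀ ⊓ V₀))ˣ) : Γ(X, U₀ ⊓ V₀)) i i) := by
    rintro ⟨_ | _⟩ <;> exact isUnit_one
  have hW := iSup_W2 U₀ V₀ hcov
  have hL := isInvertible_glueMod hcoc hunit hW
  have hcompat : ∀ i j, mres _ (inf_le_left : W2 U₀ V₀ i ⊓ W2 U₀ V₀ j ≤ W2 U₀ V₀ i)
      (a2 U₀ V₀ f i • glueGen hcoc i) =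
      mres _ (inf_le_right : W2 U₀ V₀ i ⊓ W2 U₀ V₀ j ≤ W2 U₀ V₀ j)
        (a2 U₀ V₀ f j • glueGen hcoc j) := by
    intro i j
    rw [mres_smul, mres_smul]
    have h1 := glueGen_transition hcoc i j
    change mres _ _ (glueGen hcoc i) = _ • mres _ _ (glueGen hcoc j) at h1
    rw [h1, smul_smul]
    congr 1
    rcases i with ⟨_ | _⟩ <;> rcases j with ⟨_ | _⟩
    · simp [a2, η2]
    · show (res (inf_le_left : U₀ ⊓ V₀ ≤ U₀) (1 : Γ(X, U₀)) *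
        res (inf_le_right : U₀ ⊓ V₀ ≤ V₀) f : Γ(X, U₀ ⊓ V₀)) =
          res (inf_le_right : U₀ ⊓ V₀ ≤ V₀) f
      rw [map_one, one_mul]
    · show (res (inf_le_left : V₀ ⊓ U₀ ≤ V₀) f * res (le_of_eq (inf_comm V₀ U₀))
        ((w⁻¹ : (Γ(X, U₀ ⊓ V₀))ˣ) : Γ(X, U₀ ⊓ V₀)) : Γ(X, V₀ ⊓ U₀)) =
          res (inf_le_right : V₀ ⊓ U₀ ≤ U₀) (1 : Γ(X, U₀))
      have : res (inf_le_left : V₀ ⊓ U₀ ≤ V₀) f = res (le_of_eq (inf_comm V₀ U₀))
          (res (inf_le_right : U₀ ⊓ V₀ ≤ V₀) f) := (Glue.res_res _ _ f).symm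
      rw [this, ← map_mul, huv, map_one, map_one]
    · simp [a2, η2]
  obtain ⟨t, ht, -⟩ := existsUnique_glue_sec _ (W2 U₀ V₀) hW
    (fun i => a2 U₀ V₀ f i • glueGen hcoc i) hcompat
  refine ⟨_, homOfSection _ t, hL, ?_, ?_⟩
  · have h := genLocus_inf_eq_basicOpen (homOfSection _ t)
      (isBasisOver_glueGen hcoc hunit ⟨false⟩) (1 : Γ(X, U₀))
      (by rw [val_homOfSection]; exact ht ⟨false⟩)
    have h2 : X.basicOpen (1 : Γ(X, U₀)) = U₀ := X.basicOpen_of_isUnit isUnit_one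
    have h' : CohB1.genLocus _ (homOfSection _ t) ⊓ U₀ = U₀ := h.trans h2
    intro y hy
    have : y ∈ CohB1.genLocus _ (homOfSection _ t) ⊓ U₀ := by
      rw [h']; exact hy
    exact this.1
  · exact ⟨glueGen hcoc ⟨true⟩, isBasisOver_glueGen hcoc hunit ⟨true⟩,
      by rw [val_homOfSection]; exact ht ⟨true⟩⟩

end Groth.Agent.H5.Curve4
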