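import Mathlib
import Groth.Agent.Lib.Helper5.Curve4.TwoCover2
import Groth.Agent.Lib.Helper5.Curve2.F
import Groth.Prelude.Def_RefPow

/-!
# Torsion submodules as kernels of multiplication by a section of an invertible module.
-/

set_option autoImplicit false
universe u
open CategoryTheory CategoryTheory.Limits AlgebraicGeometry TopologicalSpace Opposite

namespace Groth.Agent.H5.Curve4

open Groth.Agent.LD Groth.Agent.LD.QC Groth.Agent.H5.Glue

variable {X : Scheme.{u}}

/-- multiplication by a section of `L`: `Q ⟶ Q ⊗ L`. -/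
noncomputable def twistBy (Q : X.Modules) {L : X.Modules} (σ : unitMod X ⟶ L) :
    Q ⟶ CohB1.tensorMod Q L :=
  (SecTwist.unitorR Q).inv ≫ KoszTw.tensorMap (𝟙 Q) σ

lemma twistBy_app (Q : X.Modules) {L : X.Modules} (σ : unitMod X ⟶ L) (U : X.Opens)
    (q : Γ(Q, U)) :
    (twistBy Q σ).app U q = SecTwist.tmul Q L U q (SecTwist.val σ U) := by
  change (KoszTw.tensorMap (𝟙 Q) σ).app U ((SecTwist.unitorR Q).inv.app U q) = _
  rw [RefPow.unitorR_inv_app, KoszTw.tensorMap_tmul, Scheme.Modules.Hom.id_app]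
  rfl

/-- on the locus where `σ` generates, multiplication by `σ` is injective on sections. -/
lemma eq_zero_of_twistBy_eq_zero (Q : X.Modules) {L : X.Modules} (σ : unitMod X ⟶ L)
    (W : X.Opens) (hW : W ≤ CohB1.genLocus L σ) (q : Γ(Q, W))
    (h : (twistBy Q σ).app W q = 0) : q = 0 := by
  have he := (le_genLocus_iff_isBasisOver L σ W).mp hW
  have hinj := (bijective_tmul_of_isBasisOver Q L he W le_rfl).1
  have h0 : SecTwist.tmul Q L W q (SecTwist.val σ W) = 0 := by rw [← twistBy_app]; exact h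
  apply hinj
  show SecTwist.tmul Q L W q (L.presheaf.map (homOfLE le_rfl).op (SecTwist.val σ W)) =
    SecTwist.tmul Q L W 0 (L.presheaf.map (homOfLE le_rfl).op (SecTwist.val σ W))
  rw [QC.res_self]
  exact h0.trans (Curve2.tmul_zero_left Q L W _).symm

/-- the kernel of multiplication by `σ` has vanishing stalks where `σ` generates. -/
lemma subsingleton_stalk_kernel_twistBy (Q : X.Modules) {L : X.Modules} (σ : unitMod X ⟶ L)
    (y : X) (hy : y ∈ CohB1.genLocus L σ) :
    Subsingleton ((kernel (twistBy Q σ)).presheaf.stalk y) := by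
  refine subsingleton_of_forall_eq 0 (fun c => ?_)
  obtain ⟨V, hyV, t, rfl⟩ := TopCat.Presheaf.exists_germ_eq (kernel (twistBy Q σ)).presheaf c
  set W : X.Opens := V ⊓ CohB1.genLocus L σ
  have hyW : y ∈ W := ⟨hyV, hy⟩
  have h1 := TopCat.Presheaf.germ_res_apply (kernel (twistBy Q σ)).presheaf
    (homOfLE (inf_le_left : W ≤ V)) y hyW t
  rw [← h1]
  have h2 : (kernel (twistBy Q σ)).presheaf.map (homOfLE (inf_le_left : W ≤ V)).op t = 0 := by
    apply mono_app (kernel.ι (twistBy Q σ)) W
    rw [map_zero]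
    apply eq_zero_of_twistBy_eq_zero Q σ W inf_le_right
    change (kernel.ι (twistBy Q σ) ≫ twistBy Q σ).app W _ = 0
    rw [kernel.condition]
    rfl
  rw [h2]
  exact map_zero _

/-- a section killed by the local equation of `σ` gives a nonzero kernel. -/
lemma not_isZero_kernel_twistBy (Q : X.Modules) {L : X.Modules} (σ : unitMod X ⟶ L)
    (V : X.Opens) (e : Γ(L, V)) (f : Γ(X, V)) (hσ : SecTwist.val σ V = f • e)
    (m : Γ(Q, V)) (hfm : f • m = 0) (hm : m ≠ 0) : ¬ IsZero (kernel (twistBy Q σ)) := by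
  intro hz
  haveI : Mono (twistBy Q σ) := Preadditive.mono_of_isZero_kernel _ hz
  apply hm
  apply mono_app (twistBy Q σ) V
  rw [map_zero, twistBy_app, hσ, tmul_smul_right, ← tmul_smul_left, hfm]
  exact Curve2.tmul_zero_left Q L V e

/-- **a torsion section supported at a closed point generates a nonzero submodule supported at
that point.** -/
theorem exists_kernel_supported_at (Q : X.Modules) (x : X) (hx : IsClosed ({x} : Set X))
    (V : X.Opens) (hxV : x ∈ V) (f : Γ(X, V)) (m : Γ(Q, V))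
    (hu : IsUnit (res (inf_le_right : (⟨{x}ᶜ, hx.isOpen_compl⟩ : X.Opens) ⊓ V ≤ V) f))
    (hfm : f • m = 0) (hm : m ≠ 0) :
    ∃ (L : X.Modules) (σ : unitMod X ⟶ L), PicF.IsInvertible L ∧
      ¬ IsZero (kernel (twistBy Q σ)) ∧
      ∀ y : X, y ≠ x → Subsingleton ((kernel (twistBy Q σ)).presheaf.stalk y) := by
  have hcov : (⟨{x}ᶜ, hx.isOpen_compl⟩ : X.Opens) ⊔ V = ⊤ := by
    rw [eq_top_iff]
    intro y _
    by_cases hy : y = x
    · exact Or.inr (hy ▸ hxV)
    · exact Or.inl hy
  obtain ⟨L, σ, hL, hgen, e, he, hσ⟩ := exists_invertible_of_two_cover' _ V hcov f hu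
  refine ⟨L, σ, hL, not_isZero_kernel_twistBy Q σ V e f hσ m hfm hm, fun y hy => ?_⟩
  exact subsingleton_stalk_kernel_twistBy Q σ y (hgen hy)

end Groth.Agent.H5.Curve4
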