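import Mathlib
import Groth.Agent.Lib.Helper5.Curve4.Tors1
import Groth.Agent.Lib.Helper5.Curve1.G
import Groth.Agent.Lib.Helper1.ReflFree2
import Groth.Agent.Lib.Lead.QC.Stalk

/-!
# A coherent module on a regular curve which is not locally free has a nonzero torsion submodule.
-/

set_option autoImplicit false
universe u
open CategoryTheory CategoryTheory.Limits AlgebraicGeometry TopologicalSpace Opposite

namespace Groth.Agent.H5.Curve4

open Groth.Agent.LD Groth.Agent.LD.QC Groth.Agent.H5.Glue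

variable {X : Scheme.{u}} [IsIntegral X]

/-- a torsion element in a stalk of a coherent module gives local torsion data at a closed
point. -/
theorem exists_torsion_data [IsNoetherian X] (hdim : topologicalKrullDim X ≤ 1) (Q : X.Modules)
    (x : X) (c : X.presheaf.stalk x) (m₀ : Q.presheaf.stalk x) (hcm : c • m₀ = 0) (hc : c ≠ 0)
    (hm₀ : m₀ ≠ 0) :
    x ≠ genericPoint X ∧
    ∃ (hx : IsClosed ({x} : Set X)) (V : X.Opens) (_ : x ∈ V) (f : Γ(X, V)) (m : Γ(Q, V)),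
      IsUnit (res (inf_le_right : (⟨{x}ᶜ, hx.isOpen_compl⟩ : X.Opens) ⊓ V ≤ V) f) ∧
      f • m = 0 ∧ m ≠ 0 := by
  classical
  -- x is not the generic point
  have hxη : x ≠ genericPoint X := by
    rintro rfl
    apply hm₀
    letI : Field (X.presheaf.stalk (genericPoint X)) :=
      inferInstanceAs (Field X.functionField)
    have : m₀ = c⁻¹ • (c • m₀) := by rw [smul_smul, inv_mul_cancel₀ hc, one_smul]
    rw [this, hcm, smul_zero]
  have hx : IsClosed ({x} : Set X) := Curve.isClosed_singleton_of_ne_genericPoint hdim x hxη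
  refine ⟨hxη, hx, ?_⟩
  obtain ⟨V₁, hxV₁, t, rfl⟩ := TopCat.Presheaf.exists_germ_eq X.presheaf c
  obtain ⟨V₂, hxV₂, m₁, rfl⟩ := TopCat.Presheaf.exists_germ_eq Q.presheaf m₀
  set V₃ : X.Opens := V₁ ⊓ V₂
  have hxV₃ : x ∈ V₃ := ⟨hxV₁, hxV₂⟩
  set t' : Γ(X, V₃) := res (inf_le_left : V₃ ≤ V₁) t
  set m' : Γ(Q, V₃) := mres Q (inf_le_right : V₃ ≤ V₂) m₁
  have ht' : X.presheaf.germ V₃ x hxV₃ t' = X.presheaf.germ V₁ x hxV₁ t :=
    TopCat.Presheaf.germ_res_apply X.presheaf (homOfLE (inf_le_left : V₃ ≤ V₁)) x hxV₃ t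
  have hm' : Q.presheaf.germ V₃ x hxV₃ m' = Q.presheaf.germ V₂ x hxV₂ m₁ :=
    TopCat.Presheaf.germ_res_apply Q.presheaf (homOfLE (inf_le_right : V₃ ≤ V₂)) x hxV₃ m₁
  have hg : Q.presheaf.germ V₃ x hxV₃ (t' • m') = 0 := by
    rw [germ_smul, ht', hm']
    exact hcm
  obtain ⟨V₄, hV₄, hxV₄, h0⟩ := exists_res_eq_zero_of_germ_eq_zero Q x hxV₃ _ hg
  set f : Γ(X, V₄) := res hV₄ t'
  set m : Γ(Q, V₄) := mres Q hV₄ m'
  have hfm : f • m = 0 := by
    rw [← h0]
    exact (Scheme.Modules.map_smul Q (homOfLE hV₄) t' m').symm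
  have hfg : X.presheaf.germ V₄ x hxV₄ f = X.presheaf.germ V₁ x hxV₁ t :=
    (TopCat.Presheaf.germ_res_apply X.presheaf (homOfLE hV₄) x hxV₄ t').trans ht'
  have hmg : Q.presheaf.germ V₄ x hxV₄ m = Q.presheaf.germ V₂ x hxV₂ m₁ :=
    (TopCat.Presheaf.germ_res_apply Q.presheaf (homOfLE hV₄) x hxV₄ m').trans hm'
  have hf0 : f ≠ 0 := by
    intro h
    apply hc
    rw [← hfg, h, map_zero]
  have hbne : ((X.basicOpen f : X.Opens) : Set X).Nonempty := by
    by_contra hcon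
    apply hf0
    apply (AlgebraicGeometry.basicOpen_eq_bot_iff f).mp
    ext y
    simp only [Opens.coe_bot, Set.mem_empty_iff_false, iff_false]
    intro hy
    exact hcon ⟨y, hy⟩
  have hfin := Curve1.finite_compl_of_nonempty hdim (X.basicOpen f) hbne
  have hηb : genericPoint X ∈ X.basicOpen f :=
    ((genericPoint_spec X).mem_open_set_iff (X.basicOpen f).isOpen).mpr (by simpa using hbne)
  set S : Set X := ((X.basicOpen f : X.Opens) : Set X)ᶜ \ {x}
  have hSfin : S.Finite := hfin.subset Set.sdiff_subset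
  have hScl : IsClosed S := by
    have : S = ⋃ y ∈ S, ({y} : Set X) := by ext z; simp
    rw [this]
    refine hSfin.isClosed_biUnion fun y hy => ?_
    apply Curve.isClosed_singleton_of_ne_genericPoint hdim y
    rintro rfl
    exact hy.1 hηb
  set V : X.Opens := V₄ ⊓ ⟨Sᶜ, hScl.isOpen_compl⟩
  have hxV : x ∈ V := ⟨hxV₄, fun h => h.2 rfl⟩
  set f' : Γ(X, V) := res (inf_le_left : V ≤ V₄) f
  set m'' : Γ(Q, V) := mres Q (inf_le_left : V ≤ V₄) m
  refine ⟨V, hxV, f', m'', ?_, ?_, ?_⟩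
  · have hle : (⟨{x}ᶜ, hx.isOpen_compl⟩ : X.Opens) ⊓ V ≤ X.basicOpen f := by
      rintro y ⟨hyx, hyV₄, hyS⟩
      by_contra hyb
      exact hyS ⟨hyb, hyx⟩
    have h1 := isUnit_res_of_le_basicOpen f ((inf_le_right.trans inf_le_left :
      (⟨{x}ᶜ, hx.isOpen_compl⟩ : X.Opens) ⊓ V ≤ V₄)) hle
    have h2 : res (inf_le_right : (⟨{x}ᶜ, hx.isOpen_compl⟩ : X.Opens) ⊓ V ≤ V) f' =
        X.presheaf.map (homOfLE (inf_le_right.trans inf_le_left :
          (⟨{x}ᶜ, hx.isOpen_compl⟩ : X.Opens) ⊓ V ≤ V₄)).op f := Glue.res_res _ _ f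
    rw [h2]
    exact h1
  · have := (Scheme.Modules.map_smul Q (homOfLE (inf_le_left : V ≤ V₄)) f m).symm
    refine this.trans ?_
    rw [hfm]
    exact map_zero _
  · intro h
    apply hm₀
    have h1 := TopCat.Presheaf.germ_res_apply Q.presheaf (homOfLE (inf_le_left : V ≤ V₄)) x hxV m
    rw [← hmg, ← h1]
    change Q.presheaf.germ V x hxV m'' = 0
    rw [h]
    exact map_zero _

/-- **a coherent module on a regular integral curve which is not locally free contains a nonzero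
coherent submodule supported at one closed point.** -/
theorem exists_torsion_sub_of_not_locFree [IsNoetherian X] (hdim : topologicalKrullDim X ≤ 1)
    (hreg : ∀ x : X, IsRegularLocalRing (X.presheaf.stalk x)) (Q : X.Modules)
    (hQ : Coh.IsCoh Q) (hnf : ¬ FlatMod.IsFinLocFree Q) :
    ∃ (T : X.Modules) (i : T ⟶ Q), Mono i ∧ Coh.IsCoh T ∧ ¬ IsZero T ∧
      ∃ x : X, x ≠ genericPoint X ∧ ∀ y : X, y ≠ x → Subsingleton (T.presheaf.stalk y) := by
  have h1 : ¬ ∀ x : X, NoZeroSMulDivisors (X.presheaf.stalk x) (Q.presheaf.stalk x) :=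
    fun h => hnf ((Groth.Agent.H1.ReflFree.s1688 X hreg hdim Q hQ).mp h)
  push Not at h1
  obtain ⟨x, hx⟩ := h1
  rw [noZeroSMulDivisors_iff] at hx
  push Not at hx
  obtain ⟨c, m₀, hcm, hc, hm₀⟩ := hx
  obtain ⟨hxη, hxc, V, hxV, f, m, hu, hfm, hm⟩ := exists_torsion_data hdim Q x c m₀ hcm hc hm₀
  obtain ⟨L, σ, hL, hnz, hsupp⟩ := exists_kernel_supported_at Q x hxc V hxV f m hu hfm hm
  refine ⟨kernel (twistBy Q σ), kernel.ι _, inferInstance, ?_, hnz, x, hxη, hsupp⟩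
  exact isCoh_kernel _ hQ (Curve2.isCoh_tensor_of_isInvertible hQ hL)

end Groth.Agent.H5.Curve4
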