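import Mathlib
import Groth.Agent.Lib.Lead.Curve.RankAdd
import Groth.Agent.Lib.Lead.Curve.Proper
import Groth.Agent.Lib.Lead.FF.H0Const
import Groth.Agent.Lib.Helper5.Curve2.H

/-!
# Elementary degree bounds for submodules on proper curves.
-/

set_option autoImplicit false
universe u
open CategoryTheory CategoryTheory.Limits AlgebraicGeometry TopologicalSpace Opposite

namespace Groth.Agent.H5.Curve4

open Groth.Agent.LD Groth.Agent.LD.QC

variable (k : Type u) [Field k] (X : Scheme.{u}) [X.Over (Spec (CommRingCat.of k))]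
  [IsProper (X ↘ Spec (CommRingCat.of k))]

/-- `h⁰(O_X) ≥ 1` on a nonempty proper scheme over a field. -/
theorem one_le_finrank_HH0 [Nonempty X] :
    1 ≤ Module.finrank k (Coh.HH X (Coh.structureModule X) 0) := by
  letI : Algebra k Γ(X, ⊤) := (Coh.toGlobal (X ↘ Spec (CommRingCat.of k))).toAlgebra
  haveI : Module.Finite k (Coh.HH X (Coh.structureModule X) 0) :=
    Curve.finite_HH k X _ (PF.isCoh_unitMod X) 0
  haveI : Nontrivial Γ(X, ⊤) :=
    @Scheme.component_nontrivial X ⊤ ⟨⟨Classical.arbitrary X, trivial⟩⟩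
  haveI : Nontrivial (Coh.HH X (Coh.structureModule X) 0) :=
    (FF.HH0LinearEquivΓ k X).toEquiv.nontrivial
  exact Module.finrank_pos

theorem nonempty_of_dim_eq_one (hdim : topologicalKrullDim X = 1) : Nonempty X := by
  by_contra h
  rw [not_nonempty_iff] at h
  haveI : IsEmpty (IrreducibleCloseds X) := ⟨fun Z => h.false Z.isIrreducible'.nonempty.some⟩
  have : topologicalKrullDim X = ⊥ := by
    unfold topologicalKrullDim
    exact Order.krullDim_eq_bot
  rw [this] at hdim
  exact absurd hdim (by decide)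

/-- the basic bound: `deg F ≤ h⁰(E) + r'(g - 1)` for a coherent submodule `F` of a coherent `E`. -/
theorem deg_le_h0_add (hdim : topologicalKrullDim X ≤ 1) [Nonempty X] {F E : X.Modules}
    (i : F ⟶ E) [Mono i] (hF : Coh.IsCoh F) (hE : Coh.IsCoh E) (r' : ℕ) :
    Curv2.deg k X F r' ≤ (Module.finrank k (Coh.HH X E 0) : ℤ) +
      (r' : ℤ) * ((Curv2.genus k X : ℤ) - 1) := by
  haveI := hF.1
  haveI : (Coh.structureModule X).IsQuasicoherent := (PF.isCoh_unitMod X).1
  have e1 := Curve.euler_eq_sub k X hdim F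
  have e2 := Curve.euler_eq_sub k X hdim (Coh.structureModule X)
  haveI : Module.Finite k (Coh.HH X E 0) := Curve.finite_HH k X _ hE 0
  have h3 : Module.finrank k (Coh.HH X F 0) ≤ Module.finrank k (Coh.HH X E 0) :=
    LinearMap.finrank_le_finrank_of_injective (Curve2.injective_HHmap_zero k i)
  have h4 := one_le_finrank_HH0 k X
  have hg : (Curv2.genus k X : ℤ) = Module.finrank k (Coh.HH X (Coh.structureModule X) 1) := rfl
  unfold Curv2.deg
  rw [e1, e2, hg]
  have h5 : (0 : ℤ) ≤ Module.finrank k (Coh.HH X F 1) := Int.natCast_nonneg _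
  have h6 : (r' : ℤ) * 1 ≤ (r' : ℤ) * (Module.finrank k (Coh.HH X (Coh.structureModule X) 0) : ℤ) :=
    mul_le_mul_of_nonneg_left (by exact_mod_cast h4) (Int.natCast_nonneg _)
  have h3' : (Module.finrank k (Coh.HH X F 0) : ℤ) ≤ Module.finrank k (Coh.HH X E 0) := by
    exact_mod_cast h3
  nlinarith

omit [IsProper (X ↘ Spec (CommRingCat.of k))] [X.Over (Spec (CommRingCat.of k))] in
/-- a submodule of a locally free module has smaller rank. -/
theorem rank_le_of_mono [Nonempty X] {F E : X.Modules} (i : F ⟶ E) [Mono i] (r' r : ℕ)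
    (hF : FlatMod.IsFinLocFreeOfRank r' F) (hE : FlatMod.IsFinLocFreeOfRank r E) : r' ≤ r := by
  let x : X := Classical.arbitrary X
  let Φ := DerSch.stalkFunctor X x
  obtain ⟨f1, fin1, rk1⟩ := Groth.Agent.H4.LFP1.stalk_of_isFinLocFreeOfRank r' F hF x
  obtain ⟨f2, fin2, rk2⟩ := Groth.Agent.H4.LFP1.stalk_of_isFinLocFreeOfRank r E hE x
  haveI : Mono (Φ.map i) := Φ.map_mono i
  have hinj : Function.Injective (Φ.map i).hom := (ModuleCat.mono_iff_injective _).mp inferInstance
  haveI : Module.Finite (X.presheaf.stalk x) (Φ.obj E) := fin2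
  have := LinearMap.finrank_le_finrank_of_injective hinj
  rw [← rk1, ← rk2]
  exact this

end Groth.Agent.H5.Curve4
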