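import Mathlib
import Groth.Agent.Lib.Helper5.Curve4.VB1
import Groth.Agent.Lib.Helper1.ReflFree2
import Groth.Agent.Lib.Helper1.SmoothReg

/-!
# Vector bundles on smooth proper curves: kernels and images are vector bundles.
-/

set_option autoImplicit false
universe u
open CategoryTheory CategoryTheory.Limits AlgebraicGeometry TopologicalSpace Opposite

namespace Groth.Agent.H5.Curve4

open Groth.Agent.LD Groth.Agent.LD.QC

section General

variable {X : Scheme.{u}}

/-- on an integral scheme a finite locally free module has constant rank. -/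
theorem exists_rank [IsIntegral X] {F : X.Modules} (hF : FlatMod.IsFinLocFree F) :
    ∃ r : ℕ, FlatMod.IsFinLocFreeOfRank r F := by
  obtain ⟨U₀, n₀, hη₀, ⟨e₀⟩⟩ := hF (genericPoint X)
  refine ⟨n₀, fun x => ?_⟩
  obtain ⟨U, n, hxU, ⟨e⟩⟩ := hF x
  have hη : genericPoint X ∈ U :=
    ((genericPoint_spec X).mem_open_set_iff U.2).mpr ⟨x, by simpa using hxU⟩
  have h1 := Groth.Agent.H4.LFP1.finrank_stalk_of_restrict_iso_freeMod F U n e _ hη
  have h2 := Groth.Agent.H4.LFP1.finrank_stalk_of_restrict_iso_freeMod F U₀ n₀ e₀ _ hη₀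
  have : n = n₀ := h1.symm.trans h2
  subst this
  exact ⟨U, hxU, ⟨e⟩⟩

/-- a locally free module of rank zero is zero. -/
theorem isZero_of_rank_zero {F : X.Modules} (hF : FlatMod.IsFinLocFreeOfRank 0 F) : IsZero F := by
  apply isZero_of_forall_sections
  intro U s
  apply section_eq_zero_of_germ
  intro x hx
  obtain ⟨f1, fin1, rk1⟩ := Groth.Agent.H4.LFP1.stalk_of_isFinLocFreeOfRank 0 F hF x
  haveI := f1
  haveI := fin1
  haveI : Subsingleton (F.presheaf.stalk x) :=
    (Module.finrank_eq_zero_iff_of_free (X.presheaf.stalk x) (F.presheaf.stalk x)).mp rk1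
  exact Subsingleton.elim _ _

/-- a coherent submodule of a finite locally free module on a regular integral curve is finite
locally free. -/
theorem isFinLocFree_of_mono_of_regular [IsIntegral X] [IsLocallyNoetherian X]
    (hreg : ∀ x : X, IsRegularLocalRing (X.presheaf.stalk x))
    (hdim : topologicalKrullDim X ≤ 1) {G E : X.Modules} (i : G ⟶ E) [Mono i]
    (hG : Coh.IsCoh G) (hE : FlatMod.IsFinLocFree E) : FlatMod.IsFinLocFree G := by
  refine (Groth.Agent.H1.ReflFree.s1688 X hreg hdim G hG).mp (fun x => ?_)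
  let Φ := DerSch.stalkFunctor X x
  haveI : Mono (Φ.map i) := Φ.map_mono i
  have hinj : Function.Injective (Φ.map i).hom := (ModuleCat.mono_iff_injective _).mp inferInstance
  haveI : Module.Free (X.presheaf.stalk x) (E.presheaf.stalk x) := free_stalk_of_isFinLocFree E hE x
  haveI : Module.IsTorsionFree (X.presheaf.stalk x) (E.presheaf.stalk x) := inferInstance
  have hE' : NoZeroSMulDivisors (X.presheaf.stalk x) (E.presheaf.stalk x) :=
    ⟨fun h => smul_eq_zero.mp h⟩
  exact @Function.Injective.noZeroSMulDivisors (X.presheaf.stalk x) (G.presheaf.stalk x)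
    (E.presheaf.stalk x) _ _ _ _ _ hE' (Φ.map i).hom hinj (map_zero _)
    (fun c m => map_smul (Φ.map i).hom c m)

end General

variable (k : Type u) [Field k] (X : Scheme.{u}) [X.Over (Spec (CommRingCat.of k))]
  [IsProper (X ↘ Spec (CommRingCat.of k))] [Smooth (X ↘ Spec (CommRingCat.of k))]

omit [IsProper (X ↘ Spec (CommRingCat.of k))] in
include k in
theorem regular_stalks (x : X) : IsRegularLocalRing (X.presheaf.stalk x) := by
  have h : (X ↘ Spec (CommRingCat.of k)).smoothLocus = ⊤ :=
    Scheme.Hom.smoothLocus_eq_top_iff.mpr inferInstance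
  exact Groth.Agent.H1.SmoothReg.isRegularLocalRing_of_mem_smoothLocus k
    (X ↘ Spec (CommRingCat.of k)) x (by rw [h]; trivial)

variable [IsIntegral X]

include k in
/-- a coherent submodule of a vector bundle on a smooth proper curve is a vector bundle. -/
theorem exists_rank_of_mono (hdim : topologicalKrullDim X ≤ 1) {G E : X.Modules} (i : G ⟶ E)
    [Mono i] (hG : Coh.IsCoh G) (hE : FlatMod.IsFinLocFree E) :
    ∃ a : ℕ, FlatMod.IsFinLocFreeOfRank a G := by
  haveI := Curve.isLocallyNoetherian k X
  exact exists_rank (isFinLocFree_of_mono_of_regular (regular_stalks k X) hdim i hG hE)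

/-- **kernel and image of a map of vector bundles on a smooth proper curve are vector bundles**,
with additivity of ranks and degrees. The image is presented as the coimage
`cokernel (kernel.ι f)`. -/
theorem kernel_image_facts (hdim : topologicalKrullDim X ≤ 1) {E F : X.Modules} (r s : ℕ)
    (hE : FlatMod.IsFinLocFreeOfRank r E) (hF : FlatMod.IsFinLocFreeOfRank s F) (f : E ⟶ F) :
    ∃ a b : ℕ, a + b = r ∧ FlatMod.IsFinLocFreeOfRank a (kernel f) ∧
      FlatMod.IsFinLocFreeOfRank b (Abelian.coimage f) ∧
      Curv2.deg k X E r = Curv2.deg k X (kernel f) a + Curv2.deg k X (Abelian.coimage f) b := by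
  haveI := Curve.isLocallyNoetherian k X
  have hEc := Curve.isCoh_of_rank hE
  have hFc := Curve.isCoh_of_rank hF
  have hKc : Coh.IsCoh (kernel f) := isCoh_kernel f hEc hFc
  have hIc : Coh.IsCoh (Abelian.coimage f) := isCoh_cokernel (kernel.ι f) hKc hEc
  obtain ⟨a, ha⟩ := exists_rank_of_mono k X hdim (kernel.ι f) hKc (Curve.isFinLocFree_of_rank hE)
  obtain ⟨b, hb⟩ := exists_rank_of_mono k X hdim (Abelian.factorThruCoimage f) hIc
    (Curve.isFinLocFree_of_rank hF)
  let S : ShortComplex X.Modules :=
    ShortComplex.mk (kernel.ι f) (cokernel.π (kernel.ι f)) (cokernel.condition _)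
  have hS : S.ShortExact :=
    { exact := ShortComplex.exact_cokernel (kernel.ι f)
      mono_f := inferInstanceAs (Mono (kernel.ι f))
      epi_g := inferInstanceAs (Epi (cokernel.π (kernel.ι f))) }
  have hrk := Curve.rank_add_of_shortExact S hS a r b ha hE hb (genericPoint X)
  exact ⟨a, b, hrk.symm, ha, hb, Curve.deg_add_of_shortExact k X S hS a r b ha hE hb⟩

end Groth.Agent.H5.Curve4
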