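import Mathlib
import Groth.Agent.Lib.Helper5.Curve4.VB2
import Groth.Agent.Lib.Helper5.Curve3.SmInt

/-!
# Vector bundles on smooth proper curves: helper lemmas for slope arguments.
-/

set_option autoImplicit false
universe u
open CategoryTheory CategoryTheory.Limits AlgebraicGeometry TopologicalSpace Opposite

namespace Groth.Agent.H5.Curve4

open Groth.Agent.LD Groth.Agent.LD.QC

variable (k : Type u) [Field k] (X : Scheme.{u}) [X.Over (Spec (CommRingCat.of k))]
  [IsProper (X ↘ Spec (CommRingCat.of k))]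

omit [IsProper (X ↘ Spec (CommRingCat.of k))] in
/-- a smooth geometrically connected scheme over a field is integral. -/
theorem isIntegral_of_smooth_geomConn [Smooth (X ↘ Spec (CommRingCat.of k))]
    [GeometricallyConnected (X ↘ Spec (CommRingCat.of k))] : IsIntegral X := by
  haveI : Subsingleton ↥(Spec (CommRingCat.of k)) :=
    inferInstanceAs (Subsingleton (PrimeSpectrum k))
  haveI : Nonempty ↥(Spec (CommRingCat.of k)) := inferInstanceAs (Nonempty (PrimeSpectrum k))
  haveI : ConnectedSpace X :=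
    GeometricallyConnected.connectedSpace_of_subsingleton (f := X ↘ Spec (CommRingCat.of k))
  exact Curve3.isIntegral_of_smooth_connected k (X ↘ Spec (CommRingCat.of k))

/-- the degree of a rank-zero bundle is zero. -/
theorem deg_rank_zero {K : X.Modules} (hK : FlatMod.IsFinLocFreeOfRank 0 K) :
    Curv2.deg k X K 0 = 0 := by
  unfold Curv2.deg
  rw [Curve.euler_of_isZero k X (isZero_of_rank_zero hK)]
  simp

omit [IsProper (X ↘ Spec (CommRingCat.of k))] [X.Over (Spec (CommRingCat.of k))] in
/-- a nonzero map has coimage of positive rank. -/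
theorem rank_coimage_pos {E F : X.Modules} {f : E ⟶ F} (hf : f ≠ 0) (b : ℕ)
    (hb : FlatMod.IsFinLocFreeOfRank b (Abelian.coimage f)) : 0 < b := by
  rcases Nat.eq_zero_or_pos b with h | h
  · subst h
    exfalso
    apply hf
    have hz : IsZero (Abelian.coimage f) := isZero_of_rank_zero hb
    rw [← Abelian.coimage.fac f]
    rw [hz.eq_of_tgt (Abelian.coimage.π f) 0, zero_comp]
  · exact h

omit [IsProper (X ↘ Spec (CommRingCat.of k))] [X.Over (Spec (CommRingCat.of k))] in
/-- a map whose kernel has rank zero is a monomorphism. -/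
theorem mono_of_rank_kernel_zero {E F : X.Modules} (f : E ⟶ F)
    (ha : FlatMod.IsFinLocFreeOfRank 0 (kernel f)) : Mono f :=
  Preadditive.mono_of_isZero_kernel f (isZero_of_rank_zero ha)

/-- the numeric slope bound for a submodule, allowing rank zero. -/
theorem deg_mul_le_of_ss {E : X.Modules} (r : ℕ)
    (hss : ∀ (G : X.Modules) (r' : ℕ) (i : G ⟶ E), Mono i → 0 < r' →
      FlatMod.IsFinLocFreeOfRank r' G → Curv2.deg k X G r' * (r : ℤ) ≤ Curv2.deg k X E r * (r' : ℤ))
    {G : X.Modules} (a : ℕ) (i : G ⟶ E) [Mono i] (hG : FlatMod.IsFinLocFreeOfRank a G) :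
    Curv2.deg k X G a * (r : ℤ) ≤ Curv2.deg k X E r * (a : ℤ) := by
  rcases Nat.eq_zero_or_pos a with h | h
  · subst h
    rw [deg_rank_zero k X hG]
    simp
  · exact hss G a i inferInstance h hG

variable [Smooth (X ↘ Spec (CommRingCat.of k))] [IsIntegral X]

/-- **no maps from a semistable bundle to a bundle all of whose subbundles have smaller slope.** -/
theorem hom_eq_zero_of_slope (hdim : topologicalKrullDim X ≤ 1) (r s : ℕ) {E F : X.Modules}
    (hE : FlatMod.IsFinLocFreeOfRank r E) (hF : FlatMod.IsFinLocFreeOfRank s F)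
    (hEss : ∀ (G : X.Modules) (r' : ℕ) (i : G ⟶ E), Mono i → 0 < r' →
      FlatMod.IsFinLocFreeOfRank r' G → Curv2.deg k X G r' * (r : ℤ) ≤ Curv2.deg k X E r * (r' : ℤ))
    (hmax : ∀ (G : X.Modules) (r' : ℕ) (i : G ⟶ F), Mono i → 0 < r' →
      FlatMod.IsFinLocFreeOfRank r' G → Curv2.deg k X G r' * (r : ℤ) < Curv2.deg k X E r * (r' : ℤ))
    (f : E ⟶ F) : f = 0 := by
  by_contra hf
  obtain ⟨a, b, hab, ha, hb, hdeg⟩ := kernel_image_facts k X hdim r s hE hF f
  have hbpos := rank_coimage_pos X hf b hb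
  have hK := deg_mul_le_of_ss k X r hEss a (kernel.ι f) ha
  have hI := hmax (Abelian.coimage f) b (Abelian.factorThruCoimage f) inferInstance hbpos hb
  have habz : (a : ℤ) + (b : ℤ) = (r : ℤ) := by exact_mod_cast hab
  have h1 : Curv2.deg k X E r * (r : ℤ) =
      Curv2.deg k X (kernel f) a * (r : ℤ) + Curv2.deg k X (Abelian.coimage f) b * (r : ℤ) := by
    rw [hdeg]; ring
  have h2 : Curv2.deg k X E r * (r : ℤ) =
      Curv2.deg k X E r * (a : ℤ) + Curv2.deg k X E r * (b : ℤ) := by
    rw [← habz]; ring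
  linarith

end Groth.Agent.H5.Curve4
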