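import Mathlib
import Groth.Agent.Lib.Helper5.Curve4.VB3
import Groth.Agent.Lib.Lead.QC.Ext

/-!
# Semistability in extensions of equal slope.
-/

set_option autoImplicit false
universe u
open CategoryTheory CategoryTheory.Limits AlgebraicGeometry TopologicalSpace Opposite

namespace Groth.Agent.H5.Curve4

open Groth.Agent.LD Groth.Agent.LD.QC

section Abstract

universe v w
variable {C : Type w} [Category.{v} C] [Abelian C]

/-- the preimage of a subobject `G ⊆ X₃` under the epimorphism of a short exact sequence sits in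
a short exact sequence `0 → X₁ → g⁻¹G → G → 0`. -/
theorem preimage_shortExact (T : ShortComplex C) (hT : T.ShortExact) {G : C} (i : G ⟶ T.X₃)
    [Mono i] :
    (ShortComplex.mk (pullback.lift T.f (0 : T.X₁ ⟶ G) (by rw [T.zero, zero_comp]) :
      T.X₁ ⟶ pullback T.g i) (pullback.snd T.g i) (pullback.lift_snd _ _ _)).ShortExact := by
  haveI := hT.mono_f
  haveI := hT.epi_g
  set l : T.X₁ ⟶ pullback T.g i := pullback.lift T.f (0 : T.X₁ ⟶ G) (by rw [T.zero, zero_comp])
  have hl1 : l ≫ pullback.fst T.g i = T.f := pullback.lift_fst _ _ _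
  have hl2 : l ≫ pullback.snd T.g i = 0 := pullback.lift_snd _ _ _
  haveI : Mono l := mono_of_mono_fac hl1
  refine { exact := ?_, mono_f := inferInstanceAs (Mono l), epi_g := ?_ }
  · apply ShortComplex.exact_of_f_is_kernel
    refine KernelFork.IsLimit.ofι l hl2
      (fun {W} h hh => hT.exact.lift (h ≫ pullback.fst T.g i) (by
        rw [Category.assoc, pullback.condition, ← Category.assoc, hh, zero_comp])) ?_ ?_
    · intro W h hh
      apply pullback.hom_ext
      · rw [Category.assoc, hl1, ShortComplex.Exact.lift_f]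
      · rw [Category.assoc, hl2, comp_zero, hh]
    · intro W h hh m hm
      rw [← cancel_mono l, hm]
      apply pullback.hom_ext
      · rw [Category.assoc, hl1, ShortComplex.Exact.lift_f]
      · rw [Category.assoc, hl2, comp_zero, hh]
  · exact inferInstanceAs (Epi (pullback.snd T.g i))

end Abstract

variable (k : Type u) [Field k] (X : Scheme.{u}) [X.Over (Spec (CommRingCat.of k))]
  [IsProper (X ↘ Spec (CommRingCat.of k))] [Smooth (X ↘ Spec (CommRingCat.of k))] [IsIntegral X]

/-- semistability tested on finite locally free submodules. -/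
def SS (E : X.Modules) (r : ℕ) : Prop :=
  ∀ (G : X.Modules) (r' : ℕ) (i : G ⟶ E), Mono i → 0 < r' → FlatMod.IsFinLocFreeOfRank r' G →
    Curv2.deg k X G r' * (r : ℤ) ≤ Curv2.deg k X E r * (r' : ℤ)

/-- **S14139**: semistability in an extension with equal slopes. -/
theorem semistable_extension_iff (hdim : topologicalKrullDim X ≤ 1)
    (T : ShortComplex X.Modules) (hT : T.ShortExact)
    (r₁ r r₂ : ℕ) (hr₁ : 0 < r₁) (hr : 0 < r) (hr₂ : 0 < r₂)
    (hE₁ : FlatMod.IsFinLocFreeOfRank r₁ T.X₁) (hE : FlatMod.IsFinLocFreeOfRank r T.X₂)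
    (hE₂ : FlatMod.IsFinLocFreeOfRank r₂ T.X₃)
    (hμ₁ : Curv2.deg k X T.X₁ r₁ * (r : ℤ) = Curv2.deg k X T.X₂ r * (r₁ : ℤ))
    (hμ₂ : Curv2.deg k X T.X₃ r₂ * (r : ℤ) = Curv2.deg k X T.X₂ r * (r₂ : ℤ)) :
    SS k X T.X₂ r ↔ (SS k X T.X₁ r₁ ∧ SS k X T.X₃ r₂) := by
  haveI := Curve.isLocallyNoetherian k X
  haveI := hT.mono_f
  haveI := hT.epi_g
  have hrz : (0 : ℤ) < r := by exact_mod_cast hr
  have hr₁z : (0 : ℤ) < r₁ := by exact_mod_cast hr₁
  have hr₂z : (0 : ℤ) < r₂ := by exact_mod_cast hr₂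
  constructor
  · intro hss
    constructor
    · intro G r' i hi hr' hG
      haveI := hi
      have h := hss G r' (i ≫ T.f) inferInstance hr' hG
      have h2 : (Curv2.deg k X G r' * (r₁ : ℤ)) * (r : ℤ) ≤
          (Curv2.deg k X T.X₁ r₁ * (r' : ℤ)) * (r : ℤ) := by
        have := mul_le_mul_of_nonneg_right h hr₁z.le
        nlinarith
      exact le_of_mul_le_mul_right h2 hrz
    · intro G r' i hi hr' hG
      haveI := hi
      have hS' := preimage_shortExact T hT i
      set P := pullback T.g i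
      have hPq : P.IsQuasicoherent :=
        qc_of_shortExact _ hS' (Curve.isCoh_of_rank hE₁).1 (Curve.isCoh_of_rank hG).1
      have hPc : Coh.IsCoh P := isCoh_of_mono (pullback.fst T.g i) hPq (Curve.isCoh_of_rank hE)
      obtain ⟨c, hc⟩ := exists_rank_of_mono k X hdim (pullback.fst T.g i) hPc
        (Curve.isFinLocFree_of_rank hE)
      have hrk := Curve.rank_add_of_shortExact _ hS' r₁ c r' hE₁ hc hG (genericPoint X)
      have hdeg := Curve.deg_add_of_shortExact k X _ hS' r₁ c r' hE₁ hc hG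
      have hcpos : 0 < c := by omega
      have h := hss P c (pullback.fst T.g i) inferInstance hcpos hc
      have hcz : (c : ℤ) = (r₁ : ℤ) + (r' : ℤ) := by exact_mod_cast hrk
      simp only [] at hdeg
      have h1 : Curv2.deg k X G r' * (r : ℤ) ≤ Curv2.deg k X T.X₂ r * (r' : ℤ) := by
        rw [hdeg, hcz] at h
        nlinarith
      have h2 : (Curv2.deg k X G r' * (r₂ : ℤ)) * (r : ℤ) ≤
          (Curv2.deg k X T.X₃ r₂ * (r' : ℤ)) * (r : ℤ) := by
        have := mul_le_mul_of_nonneg_right h1 hr₂z.le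
        nlinarith
      exact le_of_mul_le_mul_right h2 hrz
  · rintro ⟨hss₁, hss₂⟩ G r' i hi hr' hG
    haveI := hi
    let g' : G ⟶ T.X₃ := i ≫ T.g
    let jK : kernel g' ⟶ T.X₁ := hT.exact.lift (kernel.ι g' ≫ i) (by
      rw [Category.assoc]; exact kernel.condition g')
    have hjK : jK ≫ T.f = kernel.ι g' ≫ i := ShortComplex.Exact.lift_f _ _ _
    haveI : Mono jK := mono_of_mono_fac hjK
    obtain ⟨a, b, hab, ha, hb, hdeg⟩ := kernel_image_facts k X hdim r' r₂ hG hE₂ g'
    have hK := deg_mul_le_of_ss k X r₁ hss₁ a jK ha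
    have hI := deg_mul_le_of_ss k X r₂ hss₂ b (Abelian.factorThruCoimage g') hb
    have habz : (a : ℤ) + (b : ℤ) = (r' : ℤ) := by exact_mod_cast hab
    have hK' : Curv2.deg k X (kernel g') a * (r : ℤ) ≤ Curv2.deg k X T.X₂ r * (a : ℤ) := by
      have h2 : (Curv2.deg k X (kernel g') a * (r : ℤ)) * (r₁ : ℤ) ≤
          (Curv2.deg k X T.X₂ r * (a : ℤ)) * (r₁ : ℤ) := by
        have := mul_le_mul_of_nonneg_right hK hrz.le
        nlinarith
      exact le_of_mul_le_mul_right h2 hr₁z
    have hI' : Curv2.deg k X (Abelian.coimage g') b * (r : ℤ) ≤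
        Curv2.deg k X T.X₂ r * (b : ℤ) := by
      have h2 : (Curv2.deg k X (Abelian.coimage g') b * (r : ℤ)) * (r₂ : ℤ) ≤
          (Curv2.deg k X T.X₂ r * (b : ℤ)) * (r₂ : ℤ) := by
        have := mul_le_mul_of_nonneg_right hI hrz.le
        nlinarith
      exact le_of_mul_le_mul_right h2 hr₂z
    rw [hdeg, ← habz]
    nlinarith

end Groth.Agent.H5.Curve4
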