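import Mathlib
import Groth.Agent.Lib.Helper5.Curve4.Tors2
import Groth.Agent.Lib.Helper5.Curve4.VB4

/-!
# The torsion-free quotient of a coherent module on a smooth proper curve.
-/

set_option autoImplicit false
universe u
open CategoryTheory CategoryTheory.Limits AlgebraicGeometry TopologicalSpace Opposite ZeroObject

namespace Groth.Agent.H5.Curve4

open Groth.Agent.LD Groth.Agent.LD.QC

section

variable {X : Scheme.{u}} [IsIntegral X]

/-- torsion modules: the generic stalk vanishes. -/
def IsTors (T : X.Modules) : Prop := Subsingleton (T.presheaf.stalk (genericPoint X))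

lemma isClosed_of_isTors (hdim : topologicalKrullDim X ≤ 1) {T : X.Modules} (hT : IsTors T)
    (y : X) (hy : ¬ Subsingleton (T.presheaf.stalk y)) : IsClosed ({y} : Set X) := by
  apply Curve.isClosed_singleton_of_ne_genericPoint hdim y
  rintro rfl
  exact hy hT

lemma isTors_of_isZero {T : X.Modules} (hT : IsZero T) : IsTors T := by
  let Φ := DerSch.stalkFunctor X (genericPoint X)
  have hz' : IsZero (Φ.obj T) := Φ.map_isZero hT
  exact ModuleCat.subsingleton_of_isZero hz'

/-- the middle term of a short exact sequence with torsion ends is torsion. -/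
lemma isTors_of_shortExact {S : ShortComplex X.Modules} (hS : S.ShortExact) (h₁ : IsTors S.X₁)
    (h₃ : IsTors S.X₃) : IsTors S.X₂ := by
  have h := support_of_shortExact hS
  unfold IsTors
  by_contra hcon
  have hmem : genericPoint X ∈ CohB1.support S.X₂ := hcon
  rw [h] at hmem
  rcases hmem with h' | h'
  · exact h' h₁
  · exact h' h₃

end

variable (k : Type u) [Field k] (X : Scheme.{u}) [X.Over (Spec (CommRingCat.of k))]
  [IsProper (X ↘ Spec (CommRingCat.of k))] [Smooth (X ↘ Spec (CommRingCat.of k))] [IsIntegral X]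

omit [Smooth (X ↘ Spec (CommRingCat.of k))] in
/-- a nonzero coherent torsion module has `h⁰ > 0`, and `χ = h⁰`. -/
lemma finrank_H0_pos_of_isTors (hdim : topologicalKrullDim X ≤ 1) {T : X.Modules}
    (hT : Coh.IsCoh T) (htors : IsTors T) (hnz : ¬ IsZero T) :
    0 < Module.finrank k (Coh.HH X T 0) := by
  have hpt := fun y hy => isClosed_of_isTors hdim htors y hy
  have h1 := Curve.euler_of_support_closed_points k X T hT hpt
  by_contra h0
  have h0' : Module.finrank k (Coh.HH X T 0) = 0 := by omega
  apply hnz
  apply Curve.isZero_of_euler_eq_zero k X T hT hpt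
  rw [h1, h0']
  rfl

include k in
/-- **the torsion-free quotient**: every coherent module on a smooth proper curve has a coherent
torsion submodule with finite locally free quotient. -/
theorem exists_torsion_free_quotient (hdim : topologicalKrullDim X ≤ 1) (Q : X.Modules)
    (hQ : Coh.IsCoh Q) :
    ∃ (T : X.Modules) (t : T ⟶ Q), Mono t ∧ Coh.IsCoh T ∧ IsTors T ∧
      FlatMod.IsFinLocFree (cokernel t) := by
  haveI := Curve.isLocallyNoetherian k X
  haveI : IsNoetherian X := Curve2.isNoetherian_of_proper k X
  let S : Set ℕ := {n | ∃ (T : X.Modules) (t : T ⟶ Q), Mono t ∧ Coh.IsCoh T ∧ IsTors T ∧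
    Module.finrank k (Coh.HH X T 0) = n}
  haveI : Module.Finite k (Coh.HH X Q 0) := Curve.finite_HH k X _ hQ 0
  have hbdd : BddAbove S := by
    refine ⟨Module.finrank k (Coh.HH X Q 0), ?_⟩
    rintro n ⟨T, t, ht, -, -, rfl⟩
    haveI := ht
    exact LinearMap.finrank_le_finrank_of_injective (Curve2.injective_HHmap_zero k t)
  have hne : S.Nonempty := by
    refine ⟨_, (0 : X.Modules), 0, ?_, isCoh_of_isZero hQ (isZero_zero _),
      isTors_of_isZero (isZero_zero _), rfl⟩
    exact mono_of_source_iso_zero _ (Iso.refl _)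
  obtain ⟨T, t, ht, hTc, hTt, hn⟩ := Nat.sSup_mem hne hbdd
  haveI := ht
  refine ⟨T, t, ht, hTc, hTt, ?_⟩
  by_contra hnf
  have hCc : Coh.IsCoh (cokernel t) := isCoh_cokernel t hTc hQ
  obtain ⟨T', j', hj', hT'c, hT'nz, x, hxη, hsupp⟩ :=
    exists_torsion_sub_of_not_locFree hdim (regular_stalks k X) (cokernel t) hCc hnf
  haveI := hj'
  have hT't : IsTors T' := hsupp _ (Ne.symm hxη)
  let S₀ : ShortComplex X.Modules := ShortComplex.mk t (cokernel.π t) (cokernel.condition t)
  have hS₀ : S₀.ShortExact :=
    { exact := ShortComplex.exact_cokernel t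
      mono_f := inferInstanceAs (Mono t)
      epi_g := inferInstanceAs (Epi (cokernel.π t)) }
  have hS' := preimage_shortExact S₀ hS₀ j'
  set P : X.Modules := pullback (cokernel.π t) j'
  have hPq : P.IsQuasicoherent := qc_of_shortExact _ hS' hTc.1 hT'c.1
  have hPc : Coh.IsCoh P := isCoh_of_mono (pullback.fst (cokernel.π t) j') hPq hQ
  have hPt : IsTors P := isTors_of_shortExact hS' hTt hT't
  have hpt := fun (M : X.Modules) (hM : IsTors M) y hy => isClosed_of_isTors hdim hM y hy
  have e1 := Curve.euler_of_support_closed_points k X T hTc (hpt T hTt)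
  have e2 := Curve.euler_of_support_closed_points k X T' hT'c (hpt T' hT't)
  have e3 := Curve.euler_of_support_closed_points k X P hPc (hpt P hPt)
  have e4 := Curve.euler_add k X _ hS' hTc hPc hT'c
  have hpos := finrank_H0_pos_of_isTors k X hdim hT'c hT't hT'nz
  have hmem : Module.finrank k (Coh.HH X P 0) ∈ S :=
    ⟨P, pullback.fst (cokernel.π t) j', inferInstance, hPc, hPt, rfl⟩
  have hle := le_csSup hbdd hmem
  simp only [] at e4
  rw [e1, e2, e3] at e4
  have : Module.finrank k (Coh.HH X P 0) =
      Module.finrank k (Coh.HH X T 0) + Module.finrank k (Coh.HH X T' 0) := by exact_mod_cast e4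
  omega

end Groth.Agent.H5.Curve4
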