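import Mathlib
import Groth.Agent.Lib.Helper5.Curve4.Sat1
import Groth.Agent.Lib.Helper1.CohLen

/-!
# Saturation of subbundles on a smooth proper curve.
-/

set_option autoImplicit false
universe u
open CategoryTheory CategoryTheory.Limits AlgebraicGeometry TopologicalSpace Opposite ZeroObject

namespace Groth.Agent.H5.Curve4

open Groth.Agent.LD Groth.Agent.LD.QC

section

variable {X : Scheme.{u}}

theorem isFinLocFreeOfRank_of_iso {M N : X.Modules} (e : M ≅ N) {n : ℕ}
    (h : FlatMod.IsFinLocFreeOfRank n M) : FlatMod.IsFinLocFreeOfRank n N := by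
  intro x
  obtain ⟨W, hxW, ⟨e'⟩⟩ := h x
  exact ⟨W, hxW, ⟨(Scheme.Modules.restrictFunctor W.ι).mapIso e.symm ≪≫ e'⟩⟩

variable [IsIntegral X]

/-- the dimension of the generic stalk. -/
noncomputable def gdim (M : X.Modules) : ℕ :=
  Module.finrank (X.presheaf.stalk (genericPoint X)) (M.presheaf.stalk (genericPoint X))

lemma gdim_of_rank {M : X.Modules} {n : ℕ} (h : FlatMod.IsFinLocFreeOfRank n M) : gdim M = n :=
  (Groth.Agent.H4.LFP1.stalk_of_isFinLocFreeOfRank n M h (genericPoint X)).2.2

lemma gdim_of_isTors {T : X.Modules} (h : IsTors T) : gdim T = 0 := by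
  haveI : Subsingleton (T.presheaf.stalk (genericPoint X)) := h
  exact Module.finrank_zero_of_subsingleton

/-- generic dimensions are additive in short exact sequences of coherent modules. -/
theorem gdim_add (S : ShortComplex X.Modules) (hS : S.ShortExact) (h₁ : Coh.IsCoh S.X₁)
    (h₃ : Coh.IsCoh S.X₃) : gdim S.X₂ = gdim S.X₁ + gdim S.X₃ := by
  let η := genericPoint X
  let Φ := DerSch.stalkFunctor X η
  have hfree : ∀ (M : Type u) [AddCommGroup M] [Module (X.presheaf.stalk η) M],
      Module.Free (X.presheaf.stalk η) M := by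
    intro M _ _
    letI : Field (X.presheaf.stalk η) := inferInstanceAs (Field X.functionField)
    exact Module.Free.of_divisionRing _ _
  have hS' : (S.map Φ).ShortExact := hS.map_of_exact Φ
  have hinj : Function.Injective (Φ.map S.f).hom :=
    (ModuleCat.mono_iff_injective _).mp hS'.mono_f
  have hsurj : Function.Surjective (Φ.map S.g).hom :=
    (ModuleCat.epi_iff_surjective _).mp hS'.epi_g
  have hex := (ShortComplex.ShortExact.moduleCat_exact_iff_function_exact _).mp hS'.exact
  haveI := h₁.1
  haveI := h₃.1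
  haveI : Module.Finite (X.presheaf.stalk η) (Φ.obj S.X₁) :=
    Groth.Agent.H1.CohLen.finite_stalk S.X₁ h₁.2 η
  haveI : Module.Finite (X.presheaf.stalk η) (Φ.obj S.X₃) :=
    Groth.Agent.H1.CohLen.finite_stalk S.X₃ h₃.2 η
  haveI : Module.Free (X.presheaf.stalk η) (Φ.obj S.X₁) := hfree _
  haveI : Module.Free (X.presheaf.stalk η) (Φ.obj S.X₃) := hfree _
  have h := Curve.finrank_eq_add_of_exact (Φ.map S.f).hom (Φ.map S.g).hom hinj hsurj
    (fun y hy => (hex y).mp hy) (fun z => (hex _).mpr ⟨z, rfl⟩)
  exact h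

end

variable (k : Type u) [Field k] (X : Scheme.{u}) [X.Over (Spec (CommRingCat.of k))]
  [IsProper (X ↘ Spec (CommRingCat.of k))] [Smooth (X ↘ Spec (CommRingCat.of k))] [IsIntegral X]

/-- **saturation**: a subbundle `G ⊆ E` of rank `r'` is contained in a subbundle `G' ⊆ E` of the
same rank with finite locally free quotient, and `deg G ≤ deg G'`. -/
theorem exists_saturation (hdim : topologicalKrullDim X ≤ 1) {G E : X.Modules} (i : G ⟶ E)
    [Mono i] (r' r : ℕ) (hG : FlatMod.IsFinLocFreeOfRank r' G)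
    (hE : FlatMod.IsFinLocFreeOfRank r E) :
    ∃ (G' : X.Modules) (i' : G' ⟶ E) (j : G ⟶ G') (s : ℕ), Mono i' ∧ j ≫ i' = i ∧
      FlatMod.IsFinLocFreeOfRank r' G' ∧ FlatMod.IsFinLocFreeOfRank s (cokernel i') ∧
      r' + s = r ∧ Curv2.deg k X G r' ≤ Curv2.deg k X G' r' ∧
      (Curv2.deg k X G r' = Curv2.deg k X G' r' → IsIso j) ∧
      Curv2.deg k X E r = Curv2.deg k X G' r' + Curv2.deg k X (cokernel i') s := by
  haveI := Curve.isLocallyNoetherian k X
  have hGc := Curve.isCoh_of_rank hG
  have hEc := Curve.isCoh_of_rank hE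
  have hQc : Coh.IsCoh (cokernel i) := isCoh_cokernel i hGc hEc
  obtain ⟨T, t, ht, hTc, hTt, hF⟩ := exists_torsion_free_quotient k X hdim (cokernel i) hQc
  haveI := ht
  have hFc : Coh.IsCoh (cokernel t) := isCoh_cokernel t hTc hQc
  let φ : E ⟶ cokernel t := cokernel.π i ≫ cokernel.π t
  haveI : Epi φ := epi_comp _ _
  -- the coimage of φ is the cokernel of its kernel, isomorphic to the target
  haveI : Epi (Abelian.factorThruCoimage φ) :=
    epi_of_epi_fac (Abelian.coimage.fac φ)
  haveI : IsIso (Abelian.factorThruCoimage φ) := isIso_of_mono_of_epi _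
  have hC : FlatMod.IsFinLocFree (Abelian.coimage φ) :=
    isFinLocFree_of_iso (asIso (Abelian.factorThruCoimage φ)).symm hF
  obtain ⟨s, hs⟩ := exists_rank hC
  have hKc : Coh.IsCoh (kernel φ) := isCoh_kernel φ hEc hFc
  obtain ⟨c, hc⟩ := exists_rank_of_mono k X hdim (kernel.ι φ) hKc (Curve.isFinLocFree_of_rank hE)
  let S₁ : ShortComplex X.Modules :=
    ShortComplex.mk (kernel.ι φ) (cokernel.π (kernel.ι φ)) (cokernel.condition _)
  have hS₁ : S₁.ShortExact :=
    { exact := ShortComplex.exact_cokernel (kernel.ι φ)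
      mono_f := inferInstanceAs (Mono (kernel.ι φ))
      epi_g := inferInstanceAs (Epi (cokernel.π (kernel.ι φ))) }
  have hrk := Curve.rank_add_of_shortExact S₁ hS₁ c r s hc hE hs (genericPoint X)
  have hdeg := Curve.deg_add_of_shortExact k X S₁ hS₁ c r s hc hE hs
  -- the generic rank count
  let S₂ : ShortComplex X.Modules := ShortComplex.mk i (cokernel.π i) (cokernel.condition i)
  have hS₂ : S₂.ShortExact :=
    { exact := ShortComplex.exact_cokernel i
      mono_f := inferInstanceAs (Mono i)
      epi_g := inferInstanceAs (Epi (cokernel.π i)) }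
  let S₃ : ShortComplex X.Modules := ShortComplex.mk t (cokernel.π t) (cokernel.condition t)
  have hS₃ : S₃.ShortExact :=
    { exact := ShortComplex.exact_cokernel t
      mono_f := inferInstanceAs (Mono t)
      epi_g := inferInstanceAs (Epi (cokernel.π t)) }
  have g2 := gdim_add S₂ hS₂ hGc hQc
  have g3 := gdim_add S₃ hS₃ hTc hFc
  have gG : gdim G = r' := gdim_of_rank hG
  have gE : gdim E = r := gdim_of_rank hE
  have gT : gdim T = 0 := gdim_of_isTors hTt
  have gF : gdim (cokernel t) = s :=
    gdim_of_rank (isFinLocFreeOfRank_of_iso (asIso (Abelian.factorThruCoimage φ)) hs)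
  change gdim E = gdim G + gdim (cokernel i) at g2
  change gdim (cokernel i) = gdim T + gdim (cokernel t) at g3
  have hcr : c = r' := by omega
  subst hcr
  let j : G ⟶ kernel φ := kernel.lift φ i (by
    change i ≫ cokernel.π i ≫ cokernel.π t = 0
    rw [← Category.assoc, cokernel.condition, zero_comp])
  have hj : j ≫ kernel.ι φ = i := kernel.lift_ι _ _ _
  haveI : Mono j := mono_of_mono_fac hj
  have hmono := Curve.deg_le_of_mono k X hdim c hG hc j
  refine ⟨kernel φ, kernel.ι φ, j, s, inferInstance, hj, hc, hs, by omega, hmono.1, hmono.2, hdeg⟩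

end Groth.Agent.H5.Curve4
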