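import Mathlib
import Groth.Agent.Lib.Helper5.Curve4.VB3

/-!
# Stable bundles: nonzero endomorphisms are isomorphisms.
-/

set_option autoImplicit false
universe u
open CategoryTheory CategoryTheory.Limits AlgebraicGeometry TopologicalSpace Opposite

namespace Groth.Agent.H5.Curve4

open Groth.Agent.LD Groth.Agent.LD.QC

variable (k : Type u) [Field k] (X : Scheme.{u}) [X.Over (Spec (CommRingCat.of k))]
  [IsProper (X ↘ Spec (CommRingCat.of k))] [Smooth (X ↘ Spec (CommRingCat.of k))] [IsIntegral X]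

/-- a nonzero endomorphism of a stable bundle is an isomorphism. -/
theorem isIso_of_ne_zero_of_stable (hdim : topologicalKrullDim X ≤ 1) (r : ℕ) {E : X.Modules}
    (hE : FlatMod.IsFinLocFreeOfRank r E)
    (hst : ModFun.IsSlopeStable k X E r) (φ : E ⟶ E) (hφ : φ ≠ 0) : IsIso φ := by
  obtain ⟨a, b, hab, ha, hb, hdeg⟩ := kernel_image_facts k X hdim r r hE hE φ
  have hbpos := rank_coimage_pos X hφ b hb
  rcases Nat.eq_zero_or_pos a with h0 | hapos
  · subst h0
    haveI := mono_of_rank_kernel_zero X φ ha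
    exact (Curve.deg_le_of_mono k X hdim r hE hE φ).2 rfl
  · exfalso
    have hK := hst (kernel φ) a (kernel.ι φ) inferInstance hapos (by omega) ha
    have hI := hst (Abelian.coimage φ) b (Abelian.factorThruCoimage φ) inferInstance hbpos
      (by omega) hb
    have habz : (a : ℤ) + (b : ℤ) = (r : ℤ) := by exact_mod_cast hab
    have h1 : Curv2.deg k X E r * (r : ℤ) =
        Curv2.deg k X (kernel φ) a * (r : ℤ) + Curv2.deg k X (Abelian.coimage φ) b * (r : ℤ) := by
      rw [hdeg]; ring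
    have h2 : Curv2.deg k X E r * (r : ℤ) =
        Curv2.deg k X E r * (a : ℤ) + Curv2.deg k X E r * (b : ℤ) := by
      rw [← habz]; ring
    linarith

omit [IsProper (X ↘ Spec (CommRingCat.of k))] [X.Over (Spec (CommRingCat.of k))]
  [Smooth (X ↘ Spec (CommRingCat.of k))] in
/-- a bundle of positive rank is nonzero. -/
theorem not_isZero_of_rank_pos {r : ℕ} (hr : 0 < r) {E : X.Modules}
    (hE : FlatMod.IsFinLocFreeOfRank r E) : ¬ IsZero E := by
  intro hz
  obtain ⟨f1, fin1, rk1⟩ := Groth.Agent.H4.LFP1.stalk_of_isFinLocFreeOfRank r E hE (genericPoint X)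
  haveI := f1
  haveI := fin1
  let Φ := DerSch.stalkFunctor X (genericPoint X)
  have hz' : IsZero (Φ.obj E) := Φ.map_isZero hz
  haveI : Subsingleton (E.presheaf.stalk (genericPoint X)) :=
    ModuleCat.subsingleton_of_isZero hz'
  have := (Module.finrank_eq_zero_iff_of_free (X.presheaf.stalk (genericPoint X))
    (E.presheaf.stalk (genericPoint X))).mpr inferInstance
  omega

/-- **S16137**: for a stable bundle `E` in a short exact sequence `0 → F → E → G → 0`,
`Hom(G, F) = 0`. -/
theorem hom_quotient_sub_eq_zero (hdim : topologicalKrullDim X ≤ 1)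
    (T : ShortComplex X.Modules) (hT : T.ShortExact)
    (r : ℕ) (hE : FlatMod.IsFinLocFreeOfRank r T.X₂)
    (hst : ModFun.IsSlopeStable k X T.X₂ r) (φ : T.X₃ ⟶ T.X₁) : φ = 0 := by
  haveI := hT.mono_f
  haveI := hT.epi_g
  by_contra hφ
  let ψ : T.X₂ ⟶ T.X₂ := T.g ≫ φ ≫ T.f
  have hψ : ψ ≠ 0 := by
    intro h
    apply hφ
    have h1 : T.g ≫ (φ ≫ T.f) = T.g ≫ 0 := by rw [comp_zero]; exact h
    have h2 : φ ≫ T.f = 0 := (cancel_epi T.g).mp h1
    exact (cancel_mono T.f).mp (by rw [h2, zero_comp])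
  haveI := isIso_of_ne_zero_of_stable k X hdim r hE hst ψ hψ
  have hsq : ψ ≫ ψ = 0 := by
    change (T.g ≫ φ ≫ T.f) ≫ (T.g ≫ φ ≫ T.f) = 0
    simp only [Category.assoc]
    rw [← Category.assoc T.f T.g, T.zero]
    simp
  have hψ0 : ψ = 0 := by
    have := (cancel_epi ψ).mp (show ψ ≫ ψ = ψ ≫ 0 by rw [hsq, comp_zero])
    exact this
  exact hψ hψ0

end Groth.Agent.H5.Curve4
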