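import Mathlib
import Groth.Agent.Lib.Helper5.Curve4.Sat2
import Groth.Agent.Lib.Helper5.Curve4.VB5

/-!
# Semistability: quotients versus subbundles (S14151).
-/

set_option autoImplicit false
universe u
open CategoryTheory CategoryTheory.Limits AlgebraicGeometry TopologicalSpace Opposite ZeroObject

namespace Groth.Agent.H5.Curve4

open Groth.Agent.LD Groth.Agent.LD.QC

variable (k : Type u) [Field k] (X : Scheme.{u}) [X.Over (Spec (CommRingCat.of k))]
  [IsProper (X ↘ Spec (CommRingCat.of k))] [Smooth (X ↘ Spec (CommRingCat.of k))] [IsIntegral X]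

/-- kernel of an epimorphism of vector bundles: rank and degree. -/
theorem kernel_facts_of_epi (hdim : topologicalKrullDim X ≤ 1) {E F : X.Modules} (r s : ℕ)
    (hE : FlatMod.IsFinLocFreeOfRank r E) (hF : FlatMod.IsFinLocFreeOfRank s F) (p : E ⟶ F)
    [Epi p] :
    ∃ a : ℕ, a + s = r ∧ FlatMod.IsFinLocFreeOfRank a (kernel p) ∧
      Curv2.deg k X E r = Curv2.deg k X (kernel p) a + Curv2.deg k X F s := by
  haveI := Curve.isLocallyNoetherian k X
  have hKc : Coh.IsCoh (kernel p) := isCoh_kernel p (Curve.isCoh_of_rank hE) (Curve.isCoh_of_rank hF)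
  obtain ⟨a, ha⟩ := exists_rank_of_mono k X hdim (kernel.ι p) hKc (Curve.isFinLocFree_of_rank hE)
  let S : ShortComplex X.Modules := ShortComplex.mk (kernel.ι p) p (kernel.condition p)
  have hS : S.ShortExact :=
    { exact := ShortComplex.exact_kernel p
      mono_f := inferInstanceAs (Mono (kernel.ι p))
      epi_g := inferInstanceAs (Epi p) }
  have hrk := Curve.rank_add_of_shortExact S hS a r s ha hE hF (genericPoint X)
  exact ⟨a, hrk.symm, ha, Curve.deg_add_of_shortExact k X S hS a r s ha hE hF⟩

/-- **S14151**. -/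
theorem semistable_quotient_iff_sub (hdim : topologicalKrullDim X ≤ 1)
    (r : ℕ) (hr : 0 < r) (E : X.Modules) (hE : FlatMod.IsFinLocFreeOfRank r E) :
    ((∀ (F : X.Modules) (s : ℕ) (p : E ⟶ F), Epi p → 0 < s → FlatMod.IsFinLocFreeOfRank s F →
      Curv2.deg k X E r * (s : ℤ) ≤ Curv2.deg k X F s * (r : ℤ)) ↔
      (∀ (G : X.Modules) (r' : ℕ) (i : G ⟶ E), Mono i → 0 < r' → FlatMod.IsFinLocFreeOfRank r' G →
      Curv2.deg k X G r' * (r : ℤ) ≤ Curv2.deg k X E r * (r' : ℤ))) ∧
    ((∀ (F : X.Modules) (s : ℕ) (p : E ⟶ F), Epi p → 0 < s → FlatMod.IsFinLocFreeOfRank s F →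
        (¬ IsIso p) → Curv2.deg k X E r * (s : ℤ) < Curv2.deg k X F s * (r : ℤ)) ↔
      (∀ (G : X.Modules) (r' : ℕ) (i : G ⟶ E), Mono i → 0 < r' → FlatMod.IsFinLocFreeOfRank r' G →
        (¬ IsIso i) → Curv2.deg k X G r' * (r : ℤ) < Curv2.deg k X E r * (r' : ℤ))) := by
  have hrz : (0 : ℤ) < r := by exact_mod_cast hr
  refine ⟨⟨?_, ?_⟩, ⟨?_, ?_⟩⟩
  · -- quotients ⇒ subs
    intro hq G r' i hi hr' hG
    haveI := hi
    obtain ⟨G', i', j, s, hi', hji, hG', hF, hrs, hle, -, hdeg⟩ :=
      exists_saturation k X hdim i r' r hG hE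
    have hrsz : (r' : ℤ) + (s : ℤ) = (r : ℤ) := by exact_mod_cast hrs
    have h1 : Curv2.deg k X G' r' * (r : ℤ) ≤ Curv2.deg k X E r * (r' : ℤ) := by
      rcases Nat.eq_zero_or_pos s with h0 | hs
      · subst h0
        have := deg_rank_zero k X hF
        have hrr : (r' : ℤ) = r := by simpa using hrsz
        rw [hdeg, this, hrr]
        simp
      · have := hq (cokernel i') s (cokernel.π i') inferInstance hs hF
        rw [hdeg] at this ⊢
        rw [← hrsz] at this ⊢
        nlinarith
    have h2 : Curv2.deg k X G r' * (r : ℤ) ≤ Curv2.deg k X G' r' * (r : ℤ) :=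
      mul_le_mul_of_nonneg_right hle hrz.le
    linarith
  · -- subs ⇒ quotients
    intro hs' F s p hp hs hF
    haveI := hp
    obtain ⟨a, has, ha, hdeg⟩ := kernel_facts_of_epi k X hdim r s hE hF p
    have hK := deg_mul_le_of_ss k X r hs' a (kernel.ι p) ha
    have hasz : (a : ℤ) + (s : ℤ) = (r : ℤ) := by exact_mod_cast has
    rw [hdeg] at hK ⊢
    rw [← hasz] at hK ⊢
    nlinarith
  · -- stable: quotients ⇒ subs
    intro hq G r' i hi hr' hG hni
    haveI := hi
    obtain ⟨G', i', j, s, hi', hji, hG', hF, hrs, hle, heq, hdeg⟩ :=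
      exists_saturation k X hdim i r' r hG hE
    haveI := hi'
    have hrsz : (r' : ℤ) + (s : ℤ) = (r : ℤ) := by exact_mod_cast hrs
    rcases Nat.eq_zero_or_pos s with h0 | hs
    · subst h0
      have hd0 := deg_rank_zero k X hF
      have hrr : (r' : ℤ) = r := by simpa using hrsz
      have hz : IsZero (cokernel i') := isZero_of_rank_zero hF
      haveI : Epi i' := Preadditive.epi_of_isZero_cokernel i' hz
      haveI : IsIso i' := isIso_of_mono_of_epi i'
      have hnj : ¬ IsIso j := by
        intro hj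
        haveI := hj
        apply hni
        rw [← hji]
        infer_instance
      have hlt : Curv2.deg k X G r' < Curv2.deg k X G' r' :=
        lt_of_le_of_ne hle (fun h => hnj (heq h))
      have : Curv2.deg k X G' r' = Curv2.deg k X E r := by rw [hdeg, hd0, add_zero]
      rw [← this, hrr]
      exact mul_lt_mul_of_pos_right hlt hrz
    · have hnp : ¬ IsIso (cokernel.π i') := by
        intro h
        haveI := h
        have h1 : s ≤ r := by omega
        have h2 : r ≤ s := rank_le_of_mono X (cokernel.π i') r s hE hF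
        omega
      have := hq (cokernel i') s (cokernel.π i') inferInstance hs hF hnp
      have h2 : Curv2.deg k X G r' * (r : ℤ) ≤ Curv2.deg k X G' r' * (r : ℤ) :=
        mul_le_mul_of_nonneg_right hle hrz.le
      rw [hdeg] at this ⊢
      rw [← hrsz] at this ⊢
      nlinarith
  · -- stable: subs ⇒ quotients
    intro hs' F s p hp hs hF hnp
    haveI := hp
    obtain ⟨a, has, ha, hdeg⟩ := kernel_facts_of_epi k X hdim r s hE hF p
    have hasz : (a : ℤ) + (s : ℤ) = (r : ℤ) := by exact_mod_cast has
    rcases Nat.eq_zero_or_pos a with h0 | hapos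
    · exfalso
      subst h0
      haveI := mono_of_rank_kernel_zero X p ha
      exact hnp (isIso_of_mono_of_epi p)
    · have hnK : ¬ IsIso (kernel.ι p) := by
        intro h
        haveI := h
        have h1 : kernel.ι p ≫ p = 0 := kernel.condition p
        have hp0 : p = 0 := (cancel_epi (kernel.ι p)).mp (by rw [h1, comp_zero])
        have hz : IsZero F := by
          rw [IsZero.iff_id_eq_zero]
          exact (cancel_epi p).mp (by rw [Category.comp_id, hp0, zero_comp])
        exact not_isZero_of_rank_pos X hs hF hz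
      have hK := hs' (kernel p) a (kernel.ι p) inferInstance hapos ha hnK
      rw [hdeg] at hK ⊢
      rw [← hasz] at hK ⊢
      nlinarith

end Groth.Agent.H5.Curve4
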