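import Mathlib
import Groth.Agent.Lib.Helper5.Curve4.Sat3

/-!
# Semistable bundles of a fixed slope form an abelian subcategory (S16469).
-/

set_option autoImplicit false
universe u
open CategoryTheory CategoryTheory.Limits AlgebraicGeometry TopologicalSpace Opposite ZeroObject

namespace Groth.Agent.H5.Curve4

open Groth.Agent.LD Groth.Agent.LD.QC

variable (k : Type u) [Field k] (X : Scheme.{u}) [X.Over (Spec (CommRingCat.of k))]
  [IsProper (X ↘ Spec (CommRingCat.of k))] [Smooth (X ↘ Spec (CommRingCat.of k))] [IsIntegral X]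

/-- **S16469**. -/
theorem kernel_cokernel_semistable (hdim : topologicalKrullDim X ≤ 1)
    (r s : ℕ) (hr : 0 < r) (hs : 0 < s) (E F : X.Modules)
    (hE : FlatMod.IsFinLocFreeOfRank r E) (hF : FlatMod.IsFinLocFreeOfRank s F)
    (hEss : SS k X E r) (hFss : SS k X F s)
    (hμ : Curv2.deg k X E r * (s : ℤ) = Curv2.deg k X F s * (r : ℤ)) (f : E ⟶ F) :
    (∃ r₀ : ℕ, FlatMod.IsFinLocFreeOfRank r₀ (kernel f) ∧
        Curv2.deg k X (kernel f) r₀ * (r : ℤ) = Curv2.deg k X E r * (r₀ : ℤ) ∧
        SS k X (kernel f) r₀) ∧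
      (∃ s₀ : ℕ, FlatMod.IsFinLocFreeOfRank s₀ (cokernel f) ∧
        Curv2.deg k X (cokernel f) s₀ * (s : ℤ) = Curv2.deg k X F s * (s₀ : ℤ) ∧
        SS k X (cokernel f) s₀) := by
  haveI := Curve.isLocallyNoetherian k X
  have hrz : (0 : ℤ) < r := by exact_mod_cast hr
  have hsz : (0 : ℤ) < s := by exact_mod_cast hs
  obtain ⟨a, b, hab, ha, hb, hdeg⟩ := kernel_image_facts k X hdim r s hE hF f
  have habz : (a : ℤ) + (b : ℤ) = (r : ℤ) := by exact_mod_cast hab
  have hK := deg_mul_le_of_ss k X r hEss a (kernel.ι f) ha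
  have hI := deg_mul_le_of_ss k X s hFss b (Abelian.factorThruCoimage f) hb
  -- the numerics
  have hIr : Curv2.deg k X (Abelian.coimage f) b * (r : ℤ) ≤ Curv2.deg k X E r * (b : ℤ) := by
    have h1 : (Curv2.deg k X (Abelian.coimage f) b * (r : ℤ)) * (s : ℤ) ≤
        (Curv2.deg k X E r * (b : ℤ)) * (s : ℤ) := by
      have := mul_le_mul_of_nonneg_right hI hrz.le
      nlinarith
    exact le_of_mul_le_mul_right h1 hsz
  have hKeq : Curv2.deg k X (kernel f) a * (r : ℤ) = Curv2.deg k X E r * (a : ℤ) := by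
    have h1 : Curv2.deg k X E r * (r : ℤ) =
        Curv2.deg k X (kernel f) a * (r : ℤ) + Curv2.deg k X (Abelian.coimage f) b * (r : ℤ) := by
      rw [hdeg]; ring
    have h2 : Curv2.deg k X E r * (r : ℤ) =
        Curv2.deg k X E r * (a : ℤ) + Curv2.deg k X E r * (b : ℤ) := by
      rw [← habz]; ring
    linarith
  have hIeq : Curv2.deg k X (Abelian.coimage f) b * (r : ℤ) = Curv2.deg k X E r * (b : ℤ) := by
    have h1 : Curv2.deg k X E r * (r : ℤ) =
        Curv2.deg k X (kernel f) a * (r : ℤ) + Curv2.deg k X (Abelian.coimage f) b * (r : ℤ) := by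
      rw [hdeg]; ring
    have h2 : Curv2.deg k X E r * (r : ℤ) =
        Curv2.deg k X E r * (a : ℤ) + Curv2.deg k X E r * (b : ℤ) := by
      rw [← habz]; ring
    linarith
  have hIs : Curv2.deg k X (Abelian.coimage f) b * (s : ℤ) = Curv2.deg k X F s * (b : ℤ) := by
    have h1 : (Curv2.deg k X (Abelian.coimage f) b * (s : ℤ)) * (r : ℤ) =
        (Curv2.deg k X F s * (b : ℤ)) * (r : ℤ) := by
      have h3 : (Curv2.deg k X (Abelian.coimage f) b * (r : ℤ)) * (s : ℤ) =
          (Curv2.deg k X E r * (b : ℤ)) * (s : ℤ) := by rw [hIeq]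
      have h4 : (Curv2.deg k X E r * (s : ℤ)) * (b : ℤ) =
          (Curv2.deg k X F s * (r : ℤ)) * (b : ℤ) := by rw [hμ]
      linarith
    exact mul_right_cancel₀ hrz.ne' h1
  refine ⟨⟨a, ha, hKeq, ?_⟩, ?_⟩
  · intro G n i hi hn hG
    haveI := hi
    have h := hEss G n (i ≫ kernel.ι f) inferInstance hn hG
    have h2 : (Curv2.deg k X G n * (a : ℤ)) * (r : ℤ) ≤
        (Curv2.deg k X (kernel f) a * (n : ℤ)) * (r : ℤ) := by
      have := mul_le_mul_of_nonneg_right h (Int.natCast_nonneg a)
      nlinarith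
    exact le_of_mul_le_mul_right h2 hrz
  · -- the cokernel
    obtain ⟨I', i', j, s', hi', hji, hI', hC, hbs, hle, heq, hdeg'⟩ :=
      exists_saturation k X hdim (Abelian.factorThruCoimage f) b s hb hF
    haveI := hi'
    have hI's := deg_mul_le_of_ss k X s hFss b i' hI'
    have hdeq : Curv2.deg k X (Abelian.coimage f) b = Curv2.deg k X I' b := by
      apply le_antisymm hle
      have h1 : Curv2.deg k X I' b * (s : ℤ) ≤ Curv2.deg k X (Abelian.coimage f) b * (s : ℤ) := by
        rw [hIs]; exact hI's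
      exact le_of_mul_le_mul_right h1 hsz
    haveI : IsIso j := heq hdeq
    -- cokernel f ≅ cokernel i'
    let e1 : cokernel f ≅ cokernel (Abelian.coimage.π f ≫ Abelian.factorThruCoimage f) :=
      cokernelIsoOfEq (Abelian.coimage.fac f).symm
    let e2 : cokernel (Abelian.coimage.π f ≫ Abelian.factorThruCoimage f) ≅
        cokernel (Abelian.factorThruCoimage f) := cokernelEpiComp _ _
    let e3 : cokernel (Abelian.factorThruCoimage f) ≅ cokernel (j ≫ i') := cokernelIsoOfEq hji.symm
    let e4 : cokernel (j ≫ i') ≅ cokernel i' := cokernelEpiComp _ _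
    let e : cokernel i' ≅ cokernel f := (e1 ≪≫ e2 ≪≫ e3 ≪≫ e4).symm
    have hCf : FlatMod.IsFinLocFreeOfRank s' (cokernel f) := isFinLocFreeOfRank_of_iso e hC
    have hdCf : Curv2.deg k X (cokernel f) s' = Curv2.deg k X (cokernel i') s' :=
      (Curve.deg_iso k X e s').symm
    have hbsz : (b : ℤ) + (s' : ℤ) = (s : ℤ) := by exact_mod_cast hbs
    have hCs : Curv2.deg k X (cokernel f) s' * (s : ℤ) = Curv2.deg k X F s * (s' : ℤ) := by
      rw [hdCf]
      have h1 : Curv2.deg k X F s * (s : ℤ) =
          Curv2.deg k X I' b * (s : ℤ) + Curv2.deg k X (cokernel i') s' * (s : ℤ) := by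
        rw [hdeg']; ring
      have h2 : Curv2.deg k X F s * (s : ℤ) =
          Curv2.deg k X F s * (b : ℤ) + Curv2.deg k X F s * (s' : ℤ) := by
        rw [← hbsz]; ring
      rw [← hdeq, hIs] at h1
      linarith
    refine ⟨s', hCf, hCs, ?_⟩
    intro G n g hg hn hG
    haveI := hg
    -- preimage of G in F
    let S₀ : ShortComplex X.Modules := ShortComplex.mk f (cokernel.π f) (cokernel.condition f)
    let S₁ : ShortComplex X.Modules := ShortComplex.mk (Abelian.factorThruCoimage f)
      (cokernel.π f) (by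
        rw [← cancel_epi (Abelian.coimage.π f), ← Category.assoc, Abelian.coimage.fac,
          cokernel.condition, comp_zero])
    have hS₁ : S₁.ShortExact :=
      { exact := by
          have h0 : S₀.Exact := ShortComplex.exact_cokernel f
          let φ : S₀ ⟶ S₁ :=
            { τ₁ := Abelian.coimage.π f
              τ₂ := 𝟙 _
              τ₃ := 𝟙 _
              comm₁₂ := by
                change Abelian.coimage.π f ≫ Abelian.factorThruCoimage f = f ≫ 𝟙 _
                rw [Category.comp_id, Abelian.coimage.fac]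
              comm₂₃ := by
                change 𝟙 _ ≫ cokernel.π f = cokernel.π f ≫ 𝟙 _
                rw [Category.comp_id, Category.id_comp] }
          haveI : Epi φ.τ₁ := inferInstanceAs (Epi (Abelian.coimage.π f))
          haveI : IsIso φ.τ₂ := inferInstanceAs (IsIso (𝟙 _))
          haveI : Mono φ.τ₃ := inferInstanceAs (Mono (𝟙 _))
          exact (ShortComplex.exact_iff_of_epi_of_isIso_of_mono φ).mp h0
        mono_f := inferInstanceAs (Mono (Abelian.factorThruCoimage f))
        epi_g := inferInstanceAs (Epi (cokernel.π f)) }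
    have hS' := preimage_shortExact S₁ hS₁ g
    set P := pullback (cokernel.π f) g
    have hPq : P.IsQuasicoherent :=
      qc_of_shortExact _ hS' (Curve.isCoh_of_rank hb).1 (Curve.isCoh_of_rank hG).1
    have hPc : Coh.IsCoh P := isCoh_of_mono (pullback.fst (cokernel.π f) g) hPq
      (Curve.isCoh_of_rank hF)
    obtain ⟨c, hc⟩ := exists_rank_of_mono k X hdim (pullback.fst (cokernel.π f) g) hPc
      (Curve.isFinLocFree_of_rank hF)
    have hrk := Curve.rank_add_of_shortExact _ hS' b c n hb hc hG (genericPoint X)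
    have hdegP := Curve.deg_add_of_shortExact k X _ hS' b c n hb hc hG
    have hcpos : 0 < c := by omega
    have h := hFss P c (pullback.fst (cokernel.π f) g) inferInstance hcpos hc
    have hcz : (c : ℤ) = (b : ℤ) + (n : ℤ) := by exact_mod_cast hrk
    change Curv2.deg k X P c = Curv2.deg k X (Abelian.coimage f) b + Curv2.deg k X G n at hdegP
    have h1 : Curv2.deg k X G n * (s : ℤ) ≤ Curv2.deg k X F s * (n : ℤ) := by
      rw [hdegP, hcz] at h
      nlinarith
    have h2 : (Curv2.deg k X G n * (s' : ℤ)) * (s : ℤ) ≤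
        (Curv2.deg k X (cokernel f) s' * (n : ℤ)) * (s : ℤ) := by
      have := mul_le_mul_of_nonneg_right h1 (Int.natCast_nonneg s')
      nlinarith
    exact le_of_mul_le_mul_right h2 hsz

end Groth.Agent.H5.Curve4
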