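import Mathlib
import Groth.Agent.Lib.Helper5.Curve4.Sat4

/-!
# The maximal destabilising subbundle (first step of the Harder–Narasimhan filtration).
-/

set_option autoImplicit false
universe u
open CategoryTheory CategoryTheory.Limits AlgebraicGeometry TopologicalSpace Opposite ZeroObject

namespace Groth.Agent.H5.Curve4

open Groth.Agent.LD Groth.Agent.LD.QC

variable (k : Type u) [Field k] (X : Scheme.{u}) [X.Over (Spec (CommRingCat.of k))]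
  [IsProper (X ↘ Spec (CommRingCat.of k))]

/-- the data of a subbundle of positive rank. -/
def IsSub (E G : X.Modules) (r' : ℕ) : Prop :=
  ∃ j : G ⟶ E, Mono j ∧ 0 < r' ∧ FlatMod.IsFinLocFreeOfRank r' G

/-- **existence of a subbundle of maximal slope and, among those, of maximal rank.** -/
theorem exists_maxSlope [IsIntegral X] (hdim : topologicalKrullDim X ≤ 1) (r : ℕ) (hr : 0 < r)
    (E : X.Modules) (hE : FlatMod.IsFinLocFreeOfRank r E) :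
    ∃ (E₁ : X.Modules) (r₁ : ℕ) (i₁ : E₁ ⟶ E), Mono i₁ ∧ 0 < r₁ ∧
      FlatMod.IsFinLocFreeOfRank r₁ E₁ ∧
      (∀ (G : X.Modules) (r' : ℕ) (j : G ⟶ E), Mono j → 0 < r' → FlatMod.IsFinLocFreeOfRank r' G →
        Curv2.deg k X G r' * (r₁ : ℤ) ≤ Curv2.deg k X E₁ r₁ * (r' : ℤ)) ∧
      (∀ (G : X.Modules) (r' : ℕ) (j : G ⟶ E), Mono j → 0 < r' → FlatMod.IsFinLocFreeOfRank r' G →
        Curv2.deg k X G r' * (r₁ : ℤ) = Curv2.deg k X E₁ r₁ * (r' : ℤ) → r' ≤ r₁) := by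
  classical
  haveI : Nonempty X := ⟨genericPoint X⟩
  set R : ℕ := r.factorial with hR
  have hRpos : (0 : ℤ) < (R : ℤ) := by exact_mod_cast Nat.factorial_pos r
  -- the integers `deg G * (R / r')`
  let P : ℤ → Prop := fun z => ∃ (G : X.Modules) (r' : ℕ), IsSub X E G r' ∧
    z = Curv2.deg k X G r' * ((R / r' : ℕ) : ℤ)
  have hmulR : ∀ r' : ℕ, 0 < r' → r' ≤ r → ((R / r' : ℕ) : ℤ) * (r' : ℤ) = (R : ℤ) := by
    intro r' h1 h2
    have := Nat.div_mul_cancel (Nat.dvd_factorial h1 h2)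
    exact_mod_cast this
  have hrle : ∀ (G : X.Modules) (r' : ℕ), IsSub X E G r' → r' ≤ r := by
    rintro G r' ⟨j, hj, -, hG⟩
    haveI := hj
    exact rank_le_of_mono X j r' r hG hE
  have hdivpos : ∀ r' : ℕ, 0 < r' → r' ≤ r → (0 : ℤ) < ((R / r' : ℕ) : ℤ) := by
    intro r' h1 h2
    have h3 := hmulR r' h1 h2
    have h4 : (0 : ℤ) < (r' : ℤ) := by exact_mod_cast h1
    by_contra hcon
    have h5 : ((R / r' : ℕ) : ℤ) ≤ 0 := not_lt.mp hcon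
    have : ((R / r' : ℕ) : ℤ) * (r' : ℤ) ≤ 0 := mul_nonpos_of_nonpos_of_nonneg h5 h4.le
    linarith
  have hbdd : ∃ b : ℤ, ∀ z : ℤ, P z → z ≤ b := by
    refine ⟨((Module.finrank k (Coh.HH X E 0) : ℤ) + (r : ℤ) * (Curv2.genus k X : ℤ)) * (R : ℤ), ?_⟩
    rintro z ⟨G, r', hsub, rfl⟩
    have hle := hrle G r' hsub
    obtain ⟨j, hj, hr', hG⟩ := hsub
    haveI := hj
    have hb := deg_le_h0_add k X hdim j (Curve.isCoh_of_rank hG) (Curve.isCoh_of_rank hE) r'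
    have h1 : (r' : ℤ) ≤ r := by exact_mod_cast hle
    have h0 : (0 : ℤ) ≤ r' := Int.natCast_nonneg _
    have hg : (0 : ℤ) ≤ Curv2.genus k X := Int.natCast_nonneg _
    have h2 : Curv2.deg k X G r' ≤
        (Module.finrank k (Coh.HH X E 0) : ℤ) + (r : ℤ) * (Curv2.genus k X : ℤ) := by nlinarith
    have h3 : (0 : ℤ) ≤ (Module.finrank k (Coh.HH X E 0) : ℤ) + (r : ℤ) * (Curv2.genus k X : ℤ) :=
      by positivity
    have h4 := hdivpos r' hr' hle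
    have h5 : ((R / r' : ℕ) : ℤ) ≤ (R : ℤ) := by
      exact_mod_cast Nat.div_le_self R r'
    calc Curv2.deg k X G r' * ((R / r' : ℕ) : ℤ)
        ≤ ((Module.finrank k (Coh.HH X E 0) : ℤ) + (r : ℤ) * (Curv2.genus k X : ℤ)) *
          ((R / r' : ℕ) : ℤ) := mul_le_mul_of_nonneg_right h2 h4.le
      _ ≤ ((Module.finrank k (Coh.HH X E 0) : ℤ) + (r : ℤ) * (Curv2.genus k X : ℤ)) * (R : ℤ) :=
          mul_le_mul_of_nonneg_left h5 h3
  have hinh : ∃ z : ℤ, P z := ⟨_, E, r, ⟨𝟙 E, inferInstance, hr, hE⟩, rfl⟩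
  obtain ⟨z₀, hz₀, hmax⟩ := Int.exists_greatest_of_bdd hbdd hinh
  -- among those attaining z₀, maximal rank
  let S : Set ℕ := {r' | ∃ G : X.Modules, IsSub X E G r' ∧
    z₀ = Curv2.deg k X G r' * ((R / r' : ℕ) : ℤ)}
  have hSne : S.Nonempty := by
    obtain ⟨G, r', hsub, hz⟩ := hz₀
    exact ⟨r', G, hsub, hz⟩
  have hSbdd : BddAbove S := ⟨r, fun r' ⟨G, hsub, _⟩ => hrle G r' hsub⟩
  obtain ⟨E₁, hsub₁, hz₁⟩ := Nat.sSup_mem hSne hSbdd
  set r₁ := sSup S with hr₁def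
  have hr₁le := hrle E₁ r₁ hsub₁
  obtain ⟨i₁, hi₁, hr₁, hE₁⟩ := hsub₁
  have key : ∀ (G : X.Modules) (r' : ℕ) (j : G ⟶ E), Mono j → 0 < r' →
      FlatMod.IsFinLocFreeOfRank r' G →
      (Curv2.deg k X G r' * (r₁ : ℤ)) * (R : ℤ) =
        (Curv2.deg k X G r' * ((R / r' : ℕ) : ℤ)) * ((r' : ℤ) * (r₁ : ℤ)) ∧
      (Curv2.deg k X E₁ r₁ * (r' : ℤ)) * (R : ℤ) = z₀ * ((r' : ℤ) * (r₁ : ℤ)) := by
    intro G r' j hj hr' hG
    have hle := hrle G r' ⟨j, hj, hr', hG⟩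
    have h1 := hmulR r' hr' hle
    have h2 := hmulR r₁ hr₁ hr₁le
    constructor
    · rw [← h1]; ring
    · rw [hz₁, ← h2]; ring
  refine ⟨E₁, r₁, i₁, hi₁, hr₁, hE₁, ?_, ?_⟩
  · intro G r' j hj hr' hG
    obtain ⟨k1, k2⟩ := key G r' j hj hr' hG
    have hz := hmax _ ⟨G, r', ⟨j, hj, hr', hG⟩, rfl⟩
    have hpos : (0 : ℤ) ≤ (r' : ℤ) * (r₁ : ℤ) := by positivity
    have h3 : (Curv2.deg k X G r' * (r₁ : ℤ)) * (R : ℤ) ≤
        (Curv2.deg k X E₁ r₁ * (r' : ℤ)) * (R : ℤ) := by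
      rw [k1, k2]
      exact mul_le_mul_of_nonneg_right hz hpos
    exact le_of_mul_le_mul_right h3 hRpos
  · intro G r' j hj hr' hG heq
    obtain ⟨k1, k2⟩ := key G r' j hj hr' hG
    have hpos : (0 : ℤ) < (r' : ℤ) * (r₁ : ℤ) := by
      have h1 : (0 : ℤ) < r' := by exact_mod_cast hr'
      have h2 : (0 : ℤ) < r₁ := by exact_mod_cast hr₁
      positivity
    have h3 : (Curv2.deg k X G r' * ((R / r' : ℕ) : ℤ)) * ((r' : ℤ) * (r₁ : ℤ)) =
        z₀ * ((r' : ℤ) * (r₁ : ℤ)) := by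
      rw [← k1, ← k2, heq]
    have h4 := mul_right_cancel₀ hpos.ne' h3
    exact le_csSup hSbdd ⟨G, ⟨j, hj, hr', hG⟩, h4.symm⟩

end Groth.Agent.H5.Curve4
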