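import Mathlib
import Groth.Agent.Lib.Helper5.Curve4.Sat3
import Groth.Agent.Lib.Lead.Curve.InvMono

/-!
# Rank two bundles: line subbundles of extensions.
-/

set_option autoImplicit false
universe u
open CategoryTheory CategoryTheory.Limits AlgebraicGeometry TopologicalSpace Opposite ZeroObject

namespace Groth.Agent.H5.Curve4

open Groth.Agent.LD Groth.Agent.LD.QC

variable (k : Type u) [Field k] (X : Scheme.{u}) [X.Over (Spec (CommRingCat.of k))]
  [IsProper (X ↘ Spec (CommRingCat.of k))] [Smooth (X ↘ Spec (CommRingCat.of k))] [IsIntegral X]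

include k in
/-- an epimorphism of vector bundles of the same rank is an isomorphism. -/
theorem isIso_of_epi_same_rank (hdim : topologicalKrullDim X ≤ 1) {E F : X.Modules} (r : ℕ)
    (hE : FlatMod.IsFinLocFreeOfRank r E) (hF : FlatMod.IsFinLocFreeOfRank r F) (p : E ⟶ F)
    [Epi p] : IsIso p := by
  obtain ⟨a, har, ha, -⟩ := kernel_facts_of_epi k X hdim r r hE hF p
  have ha0 : a = 0 := by omega
  subst ha0
  haveI := mono_of_rank_kernel_zero X p ha
  exact isIso_of_mono_of_epi p

/-- **S11827**: a line subbundle of an extension of line bundles either is the sub line bundle or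
has degree at most that of the quotient. -/
theorem sub_eq_or_deg_le (hdim : topologicalKrullDim X ≤ 1)
    (S : ShortComplex X.Modules) (hS : S.ShortExact)
    (hM : PicF.IsInvertible S.X₃)
    (N : X.Modules) (hN : PicF.IsInvertible N) (j : N ⟶ S.X₂) [Mono j]
    (hq : PicF.IsInvertible (cokernel j)) :
    (∃ φ : N ≅ S.X₁, φ.hom ≫ S.f = j) ∨ (Curv2.deg k X N 1 ≤ Curv2.deg k X S.X₃ 1 ∧
      (Curv2.deg k X N 1 = Curv2.deg k X S.X₃ 1 → IsIso (j ≫ S.g))) := by
  haveI := hS.mono_f
  haveI := hS.epi_g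
  by_cases h : j ≫ S.g = 0
  · left
    let φ₀ : N ⟶ S.X₁ := hS.exact.lift j h
    have hφ₀ : φ₀ ≫ S.f = j := ShortComplex.Exact.lift_f _ _ _
    let q : cokernel j ⟶ S.X₃ := cokernel.desc j S.g h
    have hq1 : cokernel.π j ≫ q = S.g := cokernel.π_desc _ _ _
    haveI : Epi q := epi_of_epi_fac hq1
    haveI : IsIso q := isIso_of_epi_same_rank k X hdim 1 ((isInvertible_iff _).mp hq)
      ((isInvertible_iff _).mp hM) q
    have h0 : S.f ≫ cokernel.π j = 0 := by
      rw [← cancel_mono q, Category.assoc, hq1, S.zero, zero_comp]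
    let ψ : S.X₁ ⟶ N := Abelian.monoLift j S.f h0
    have hψ : ψ ≫ j = S.f := Abelian.monoLift_comp j S.f h0
    refine ⟨⟨φ₀, ψ, ?_, ?_⟩, hφ₀⟩
    · rw [← cancel_mono j, Category.assoc, hψ, hφ₀, Category.id_comp]
    · rw [← cancel_mono S.f, Category.assoc, hφ₀, hψ, Category.id_comp]
  · right
    exact Curve.deg_le_of_ne_zero k X hdim hN hM (j ≫ S.g) h

omit [Smooth (X ↘ Spec (CommRingCat.of k))] [IsIntegral X] in
/-- the degree of a rank two bundle is the sum of the degrees of a line subbundle and of the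
quotient line bundle. -/
theorem deg_two_eq (E M : X.Modules) (hE : FlatMod.IsFinLocFreeOfRank 2 E)
    (hM : PicF.IsInvertible M) (i : M ⟶ E) [Mono i] (hq : PicF.IsInvertible (cokernel i)) :
    Curv2.deg k X E 2 = Curv2.deg k X M 1 + Curv2.deg k X (cokernel i) 1 := by
  let S : ShortComplex X.Modules := ShortComplex.mk i (cokernel.π i) (cokernel.condition i)
  have hS : S.ShortExact :=
    { exact := ShortComplex.exact_cokernel i
      mono_f := inferInstanceAs (Mono i)
      epi_g := inferInstanceAs (Epi (cokernel.π i)) }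
  exact Curve.deg_add_of_shortExact k X S hS 1 2 1 ((isInvertible_iff _).mp hM) hE
    ((isInvertible_iff _).mp hq)

/-- the short exact sequence of a subobject. -/
noncomputable abbrev sesOf {E M : X.Modules} (i : M ⟶ E) : ShortComplex X.Modules :=
  ShortComplex.mk i (cokernel.π i) (cokernel.condition i)

omit [X.Over (Spec (CommRingCat.of k))] [IsIntegral X] in
lemma sesOf_shortExact {E M : X.Modules} (i : M ⟶ E) [Mono i] : (sesOf X i).ShortExact :=
  { exact := ShortComplex.exact_cokernel i
    mono_f := inferInstanceAs (Mono i)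
    epi_g := inferInstanceAs (Epi (cokernel.π i)) }

/-- **S11816**: a destabilising line subbundle of a rank two bundle is unique. -/
theorem destab_unique (hdim : topologicalKrullDim X ≤ 1)
    (E : X.Modules) (hE : FlatMod.IsFinLocFreeOfRank 2 E)
    (M M' : X.Modules) (hM : PicF.IsInvertible M) (hM' : PicF.IsInvertible M')
    (i : M ⟶ E) (i' : M' ⟶ E) [Mono i] [Mono i']
    (hq : PicF.IsInvertible (cokernel i)) (hq' : PicF.IsInvertible (cokernel i'))
    (hd : Curv2.deg k X E 2 < 2 * Curv2.deg k X M 1)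
    (hd' : Curv2.deg k X E 2 < 2 * Curv2.deg k X M' 1) :
    ∃ φ : M ≅ M', φ.hom ≫ i' = i := by
  rcases sub_eq_or_deg_le k X hdim (sesOf X i') (sesOf_shortExact X i') hq' M hM i hq with h | h
  · exact h
  · exfalso
    have h1 := deg_two_eq k X E M' hE hM' i' hq'
    have h2 : Curv2.deg k X M 1 ≤ Curv2.deg k X (cokernel i') 1 := h.1
    linarith

/-- **S11830**: the graded module of a rank two bundle with respect to a line subbundle of half
the degree is well defined. -/
theorem gr_wellDefined (hdim : topologicalKrullDim X ≤ 1)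
    (E : X.Modules) (hE : FlatMod.IsFinLocFreeOfRank 2 E)
    (L L' : X.Modules) (hL : PicF.IsInvertible L) (hL' : PicF.IsInvertible L')
    (i : L ⟶ E) (i' : L' ⟶ E) [Mono i] [Mono i']
    (hq : PicF.IsInvertible (cokernel i)) (hq' : PicF.IsInvertible (cokernel i'))
    (hd : 2 * Curv2.deg k X L 1 = Curv2.deg k X E 2)
    (hd' : 2 * Curv2.deg k X L' 1 = Curv2.deg k X E 2) :
    Nonempty (L ⊞ cokernel i ≅ L' ⊞ cokernel i') := by
  have h1 := deg_two_eq k X E L hE hL i hq
  have h1' := deg_two_eq k X E L' hE hL' i' hq'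
  have key : ∀ (φ : L ≅ L'), φ.hom ≫ i' = i → Nonempty (L ⊞ cokernel i ≅ L' ⊞ cokernel i') := by
    intro φ hφ
    let e3 : cokernel i ≅ cokernel (φ.hom ≫ i') := cokernelIsoOfEq hφ.symm
    let e4 : cokernel (φ.hom ≫ i') ≅ cokernel i' := cokernelEpiComp _ _
    exact ⟨biprod.mapIso φ (e3 ≪≫ e4)⟩
  rcases sub_eq_or_deg_le k X hdim (sesOf X i') (sesOf_shortExact X i') hq' L hL i hq with h | h
  · obtain ⟨φ, hφ⟩ := h
    exact key φ hφ
  · rcases sub_eq_or_deg_le k X hdim (sesOf X i) (sesOf_shortExact X i) hq L' hL' i' hq'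
      with h' | h'
    · obtain ⟨φ, hφ⟩ := h'
      refine key φ.symm ?_
      rw [← hφ, Iso.symm_hom, Iso.inv_hom_id_assoc]
    · have e1 : Curv2.deg k X L 1 = Curv2.deg k X (cokernel i') 1 := by linarith
      have e2 : Curv2.deg k X L' 1 = Curv2.deg k X (cokernel i) 1 := by linarith
      haveI : IsIso (i ≫ cokernel.π i') := h.2 e1
      haveI : IsIso (i' ≫ cokernel.π i) := h'.2 e2
      let g : L ≅ cokernel i' := asIso (i ≫ cokernel.π i')
      let g' : L' ≅ cokernel i := asIso (i' ≫ cokernel.π i)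
      exact ⟨biprod.mapIso (Iso.refl L) g'.symm ≪≫ biprod.braiding L L' ≪≫
        biprod.mapIso (Iso.refl L') g⟩

end Groth.Agent.H5.Curve4
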