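import Mathlib
import Groth.Agent.Lib.Helper5.Curve4.Rk2
import Groth.Agent.Lib.Helper5.Curve2.L

/-!
# `h⁰ ≤ rank` for semistable bundles of degree zero.
-/

set_option autoImplicit false
universe u
open CategoryTheory CategoryTheory.Limits AlgebraicGeometry TopologicalSpace Opposite ZeroObject

namespace Groth.Agent.H5.Curve4

open Groth.Agent.LD Groth.Agent.LD.QC

variable (k : Type u) [Field k] (X : Scheme.{u}) [X.Over (Spec (CommRingCat.of k))]
  [IsProper (X ↘ Spec (CommRingCat.of k))] [Smooth (X ↘ Spec (CommRingCat.of k))] [IsIntegral X]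

omit [IsProper (X ↘ Spec (CommRingCat.of k))] [Smooth (X ↘ Spec (CommRingCat.of k))]
  [IsIntegral X] in
lemma finrank_H0_of_isZero {G : X.Modules} (hG : IsZero G) :
    Module.finrank k (Coh.HH X G 0) = 0 := by
  haveI : Subsingleton (Coh.HH X G 0) := by
    refine ⟨fun a b => (CL.HH0Equiv G).injective ?_⟩
    have h0 : ∀ s : Γ(G, ⊤), s = 0 := fun s => by
      have h1 : (𝟙 G : G ⟶ G) = 0 := hG.eq_of_src _ _
      have h2 : (𝟙 G : G ⟶ G).app ⊤ s = (0 : G ⟶ G).app ⊤ s := by rw [h1]
      exact h2
    rw [h0 (CL.HH0Equiv G a), h0 (CL.HH0Equiv G b)]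
  exact Module.finrank_zero_of_subsingleton

include k in
/-- a nonzero section of a vector bundle is a monomorphism. -/
theorem mono_of_section_ne_zero (hdim : topologicalKrullDim X ≤ 1) {G : X.Modules} (r : ℕ)
    (hG : FlatMod.IsFinLocFreeOfRank r G) (σ : unitMod X ⟶ G) (hσ : σ ≠ 0) : Mono σ := by
  have hO : FlatMod.IsFinLocFreeOfRank 1 (unitMod X) := (isInvertible_iff _).mp (isInvertible_unit X)
  obtain ⟨a, b, hab, ha, hb, -⟩ := kernel_image_facts k X hdim 1 r hO hG σ
  have hbpos := rank_coimage_pos X hσ b hb
  have ha0 : a = 0 := by omega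
  subst ha0
  exact mono_of_rank_kernel_zero X σ ha

/-- **`h⁰(G) ≤ rank(G) · h⁰(O)`** for a semistable bundle of degree zero. -/
theorem finrank_H0_le_of_ss_deg_zero (hdim : topologicalKrullDim X ≤ 1) :
    ∀ (r : ℕ) (G : X.Modules), FlatMod.IsFinLocFreeOfRank r G → Curv2.deg k X G r = 0 →
      SS k X G r →
      Module.finrank k (Coh.HH X G 0) ≤ r * Module.finrank k (Coh.HH X (unitMod X) 0) := by
  haveI := Curve.isLocallyNoetherian k X
  intro r
  induction r with
  | zero =>
    intro G hG _ _
    rw [finrank_H0_of_isZero k X (isZero_of_rank_zero hG)]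
    exact Nat.zero_le _
  | succ r ih =>
    intro G hG hdeg hss
    by_cases hH : Nontrivial (Coh.HH X G 0)
    · obtain ⟨σ, hσ⟩ := Curve2.exists_section_ne_zero_of_nontrivial_H0 k X G hH
      haveI := mono_of_section_ne_zero k X hdim (r + 1) hG σ hσ
      have hO : FlatMod.IsFinLocFreeOfRank 1 (unitMod X) :=
        (isInvertible_iff _).mp (isInvertible_unit X)
      obtain ⟨L', i', j, s, hi', hji, hL', hC, hrs, hle, heq, hdeg'⟩ :=
        exists_saturation k X hdim σ 1 (r + 1) hO hG
      haveI := hi'
      have hs : s = r := by omega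
      subst hs
      have hdO : Curv2.deg k X (unitMod X) 1 = 0 := Curve.deg_structureModule k X
      have h1 := hss L' 1 i' hi' Nat.one_pos hL'
      rw [hdeg] at h1
      push_cast at h1
      have hr1 : (0 : ℤ) < (s : ℤ) + 1 := by positivity
      have hL'le : Curv2.deg k X L' 1 ≤ 0 := by
        by_contra hcon
        have h3 : 0 < Curv2.deg k X L' 1 := not_le.mp hcon
        have := mul_pos h3 hr1
        linarith
      have hL'0 : Curv2.deg k X L' 1 = 0 := le_antisymm hL'le (hdO ▸ hle)
      haveI : IsIso j := heq (hdO.trans hL'0.symm)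
      have hh0L' : Module.finrank k (Coh.HH X L' 0) = Module.finrank k (Coh.HH X (unitMod X) 0) :=
        (Curve2.finrank_HH_iso k X (asIso j) 0).symm
      have hdC : Curv2.deg k X (cokernel i') s = 0 := by
        rw [hdeg, hL'0] at hdeg'
        linarith
      -- the quotient is semistable
      have hssC : SS k X (cokernel i') s := by
        intro H n g hg hn hH'
        haveI := hg
        have hS' := preimage_shortExact (sesOf X i') (sesOf_shortExact X i') g
        set P := pullback (cokernel.π i') g
        have hPq : P.IsQuasicoherent :=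
          qc_of_shortExact _ hS' (Curve.isCoh_of_rank hL').1 (Curve.isCoh_of_rank hH').1
        have hPc : Coh.IsCoh P := isCoh_of_mono (pullback.fst (cokernel.π i') g) hPq
          (Curve.isCoh_of_rank hG)
        obtain ⟨c, hc⟩ := exists_rank_of_mono k X hdim (pullback.fst (cokernel.π i') g) hPc
          (Curve.isFinLocFree_of_rank hG)
        have hrk := Curve.rank_add_of_shortExact _ hS' 1 c n hL' hc hH' (genericPoint X)
        have hdegP := Curve.deg_add_of_shortExact k X _ hS' 1 c n hL' hc hH'
        change Curv2.deg k X P c = Curv2.deg k X L' 1 + Curv2.deg k X H n at hdegP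
        have hcpos : 0 < c := by omega
        have h2 := hss P c (pullback.fst (cokernel.π i') g) inferInstance hcpos hc
        rw [hdeg, hdegP, hL'0] at h2
        push_cast at h2
        rw [hdC]
        have hHle : Curv2.deg k X H n ≤ 0 := by
          by_contra hcon
          have h3 : 0 < Curv2.deg k X H n := not_le.mp hcon
          have := mul_pos h3 hr1
          linarith
        have hsz : (0 : ℤ) ≤ (s : ℤ) := Int.natCast_nonneg _
        nlinarith
      have ihC := ih (cokernel i') hC hdC hssC
      have hle' := Curve2.finrank_H0_le k X (sesOf_shortExact X i') (Curve.isCoh_of_rank hG)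
        (Curve.isCoh_of_rank hC)
      change Module.finrank k (Coh.HH X G 0) ≤ Module.finrank k (Coh.HH X L' 0) +
        Module.finrank k (Coh.HH X (cokernel i') 0) at hle'
      rw [hh0L'] at hle'
      calc Module.finrank k (Coh.HH X G 0)
          ≤ Module.finrank k (Coh.HH X (unitMod X) 0) +
            Module.finrank k (Coh.HH X (cokernel i') 0) := hle'
        _ ≤ Module.finrank k (Coh.HH X (unitMod X) 0) +
            s * Module.finrank k (Coh.HH X (unitMod X) 0) := Nat.add_le_add_left ihC _
        _ = (s + 1) * Module.finrank k (Coh.HH X (unitMod X) 0) := by ring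
    · rw [not_nontrivial_iff_subsingleton] at hH
      haveI := hH
      rw [Module.finrank_zero_of_subsingleton]
      exact Nat.zero_le _

end Groth.Agent.H5.Curve4
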