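import Mathlib
import Groth.Agent.Lib.Lead.Curve.DegMono

/-!
# Monotonicity of the degree for generically isomorphic monomorphisms of coherent modules.
-/

set_option autoImplicit false
universe u
open CategoryTheory CategoryTheory.Limits AlgebraicGeometry TopologicalSpace Opposite

namespace Groth.Agent.H5.Curve4

open Groth.Agent.LD Groth.Agent.LD.QC Groth.Agent.LD.Curve

variable (k : Type u) [Field k] (X : Scheme.{u}) [X.Over (Spec (CommRingCat.of k))]
  [IsProper (X ↘ Spec (CommRingCat.of k))] [IsIntegral X]

theorem deg_le_of_mono_generic_iso (hdim : topologicalKrullDim X ≤ 1) (n : ℕ) {E F : X.Modules}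
    (hEc : Coh.IsCoh E) (hFc : Coh.IsCoh F) (f : E ⟶ F) [Mono f]
    (hgen : Subsingleton ((cokernel f).presheaf.stalk (genericPoint X))) :
    Curv2.deg k X E n ≤ Curv2.deg k X F n ∧ (Curv2.deg k X E n = Curv2.deg k X F n ↔ IsIso f) := by
  have hTc : Coh.IsCoh (cokernel f) := isCoh_cokernel f hEc hFc
  let S : ShortComplex X.Modules := ShortComplex.mk f (cokernel.π f) (cokernel.condition f)
  have hS : S.ShortExact :=
    { exact := ShortComplex.exact_cokernel f
      mono_f := inferInstanceAs (Mono f)
      epi_g := inferInstanceAs (Epi (cokernel.π f)) }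
  have hpt : ∀ x : X, ¬ Subsingleton ((cokernel f).presheaf.stalk x) → IsClosed ({x} : Set X) :=
    fun x hx => isClosed_singleton_of_stalk hdim (cokernel f) hgen x hx
  have hχ : Curv2.euler k X F = Curv2.euler k X E + Curv2.euler k X (cokernel f) :=
    euler_add k X S hS hEc hFc hTc
  have hnn := euler_nonneg_of_support_closed_points k X (cokernel f) hTc hpt
  refine ⟨?_, ?_, ?_⟩
  · unfold Curv2.deg
    linarith
  · intro heq
    have h0 : Curv2.euler k X (cokernel f) = 0 := by
      unfold Curv2.deg at heq
      linarith
    have hz := isZero_of_euler_eq_zero k X (cokernel f) hTc hpt h0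
    haveI : Epi f := Preadditive.epi_of_isZero_cokernel f hz
    exact isIso_of_mono_of_epi f
  · intro hiso
    haveI := hiso
    have h0 := euler_iso k X (asIso f)
    unfold Curv2.deg
    rw [h0]

end Groth.Agent.H5.Curve4
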