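import Mathlib
import Groth.Agent.Lib.Helper5.Curve4.HN1

/-!
# The maximal destabilising subbundle: the slope drops in the quotient, and uniqueness (S16470).
-/

set_option autoImplicit false
universe u
open CategoryTheory CategoryTheory.Limits AlgebraicGeometry TopologicalSpace Opposite ZeroObject

namespace Groth.Agent.H5.Curve4

open Groth.Agent.LD Groth.Agent.LD.QC

variable (k : Type u) [Field k] (X : Scheme.{u}) [X.Over (Spec (CommRingCat.of k))]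
  [IsProper (X ↘ Spec (CommRingCat.of k))] [Smooth (X ↘ Spec (CommRingCat.of k))] [IsIntegral X]

/-- maximal slope among subbundles of `E`. -/
def MaxSl (E E₁ : X.Modules) (r₁ : ℕ) : Prop :=
  ∀ (F : X.Modules) (r' : ℕ) (j : F ⟶ E), Mono j → 0 < r' → FlatMod.IsFinLocFreeOfRank r' F →
    Curv2.deg k X F r' * (r₁ : ℤ) ≤ Curv2.deg k X E₁ r₁ * (r' : ℤ)

/-- every subbundle of the quotient has smaller slope. -/
def QuotLt {E E₁ : X.Modules} (r₁ : ℕ) (i₁ : E₁ ⟶ E) : Prop :=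
  ∀ (Q : X.Modules) (s : ℕ) (j : Q ⟶ cokernel i₁), Mono j → 0 < s →
    FlatMod.IsFinLocFreeOfRank s Q → Curv2.deg k X Q s * (r₁ : ℤ) < Curv2.deg k X E₁ r₁ * (s : ℤ)

/-- for a subbundle of maximal slope and maximal rank, the slope drops in the quotient. -/
theorem quotLt_of_maxSlope (hdim : topologicalKrullDim X ≤ 1) {r : ℕ} {E : X.Modules}
    (hE : FlatMod.IsFinLocFreeOfRank r E) {E₁ : X.Modules} {r₁ : ℕ} (i₁ : E₁ ⟶ E) [Mono i₁]
    (hE₁ : FlatMod.IsFinLocFreeOfRank r₁ E₁) (ha : MaxSl k X E E₁ r₁)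
    (hb : ∀ (G : X.Modules) (r' : ℕ) (j : G ⟶ E), Mono j → 0 < r' →
      FlatMod.IsFinLocFreeOfRank r' G →
      Curv2.deg k X G r' * (r₁ : ℤ) = Curv2.deg k X E₁ r₁ * (r' : ℤ) → r' ≤ r₁) :
    QuotLt k X r₁ i₁ := by
  haveI := Curve.isLocallyNoetherian k X
  intro Q s j hj hs hQ
  haveI := hj
  let S₀ : ShortComplex X.Modules := ShortComplex.mk i₁ (cokernel.π i₁) (cokernel.condition i₁)
  have hS₀ : S₀.ShortExact :=
    { exact := ShortComplex.exact_cokernel i₁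
      mono_f := inferInstanceAs (Mono i₁)
      epi_g := inferInstanceAs (Epi (cokernel.π i₁)) }
  have hS' := preimage_shortExact S₀ hS₀ j
  set P := pullback (cokernel.π i₁) j
  have hPq : P.IsQuasicoherent :=
    qc_of_shortExact _ hS' (Curve.isCoh_of_rank hE₁).1 (Curve.isCoh_of_rank hQ).1
  have hPc : Coh.IsCoh P := isCoh_of_mono (pullback.fst (cokernel.π i₁) j) hPq
    (Curve.isCoh_of_rank hE)
  obtain ⟨c, hc⟩ := exists_rank_of_mono k X hdim (pullback.fst (cokernel.π i₁) j) hPc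
    (Curve.isFinLocFree_of_rank hE)
  have hrk := Curve.rank_add_of_shortExact _ hS' r₁ c s hE₁ hc hQ (genericPoint X)
  have hdegP := Curve.deg_add_of_shortExact k X _ hS' r₁ c s hE₁ hc hQ
  change Curv2.deg k X P c = Curv2.deg k X E₁ r₁ + Curv2.deg k X Q s at hdegP
  have hcpos : 0 < c := by omega
  have h1 := ha P c (pullback.fst (cokernel.π i₁) j) inferInstance hcpos hc
  have hcz : (c : ℤ) = (r₁ : ℤ) + (s : ℤ) := by exact_mod_cast hrk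
  have hne : Curv2.deg k X P c * (r₁ : ℤ) ≠ Curv2.deg k X E₁ r₁ * (c : ℤ) := by
    intro heq
    have := hb P c (pullback.fst (cokernel.π i₁) j) inferInstance hcpos hc heq
    omega
  have hlt := lt_of_le_of_ne h1 hne
  rw [hdegP, hcz] at hlt
  nlinarith

/-- a subbundle of maximal slope has finite locally free quotient. -/
theorem cokernel_locFree_of_maxSl (hdim : topologicalKrullDim X ≤ 1) {r : ℕ} {E : X.Modules}
    (hE : FlatMod.IsFinLocFreeOfRank r E) {E₁ : X.Modules} {r₁ : ℕ} (hr₁ : 0 < r₁) (i₁ : E₁ ⟶ E)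
    [Mono i₁] (hE₁ : FlatMod.IsFinLocFreeOfRank r₁ E₁) (ha : MaxSl k X E E₁ r₁) :
    ∃ s : ℕ, FlatMod.IsFinLocFreeOfRank s (cokernel i₁) := by
  obtain ⟨G', i', j, s, hi', hji, hG', hC, -, hle, heq, -⟩ :=
    exists_saturation k X hdim i₁ r₁ r hE₁ hE
  have hr₁z : (0 : ℤ) < r₁ := by exact_mod_cast hr₁
  have h1 := ha G' r₁ i' hi' hr₁ hG'
  have h2 : Curv2.deg k X G' r₁ ≤ Curv2.deg k X E₁ r₁ := le_of_mul_le_mul_right h1 hr₁z
  haveI : IsIso j := heq (le_antisymm hle h2)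
  let e3 : cokernel i₁ ≅ cokernel (j ≫ i') := cokernelIsoOfEq hji.symm
  let e4 : cokernel (j ≫ i') ≅ cokernel i' := cokernelEpiComp _ _
  exact ⟨s, isFinLocFreeOfRank_of_iso (e3 ≪≫ e4).symm hC⟩

/-- a subbundle of maximal slope factors through one with the two properties. -/
theorem factor_of_maxProp (hdim : topologicalKrullDim X ≤ 1) {r : ℕ} {E : X.Modules}
    (hE : FlatMod.IsFinLocFreeOfRank r E) {E₁ E₁' : X.Modules} {r₁ r₁' : ℕ}
    (hr₁ : 0 < r₁) (hr₁' : 0 < r₁') (i₁ : E₁ ⟶ E) (i₁' : E₁' ⟶ E) [Mono i₁] [Mono i₁']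
    (hE₁ : FlatMod.IsFinLocFreeOfRank r₁ E₁) (hE₁' : FlatMod.IsFinLocFreeOfRank r₁' E₁')
    (ha : MaxSl k X E E₁ r₁) (hq : QuotLt k X r₁ i₁) (ha' : MaxSl k X E E₁' r₁') :
    ∃ u : E₁' ⟶ E₁, u ≫ i₁ = i₁' := by
  obtain ⟨s₁, hC⟩ := cokernel_locFree_of_maxSl k X hdim hE hr₁ i₁ hE₁ ha
  let g : E₁' ⟶ cokernel i₁ := i₁' ≫ cokernel.π i₁
  have hg : g = 0 := by
    by_contra hne
    obtain ⟨a, b, hab, hKa, hIb, hdeg⟩ := kernel_image_facts k X hdim r₁' s₁ hE₁' hC g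
    have hbpos := rank_coimage_pos X hne b hIb
    have hI := hq (Abelian.coimage g) b (Abelian.factorThruCoimage g) inferInstance hbpos hIb
    have hK : Curv2.deg k X (kernel g) a * (r₁ : ℤ) ≤ Curv2.deg k X E₁ r₁ * (a : ℤ) := by
      rcases Nat.eq_zero_or_pos a with h0 | hapos
      · subst h0
        rw [deg_rank_zero k X hKa]
        simp
      · exact ha (kernel g) a (kernel.ι g ≫ i₁') inferInstance hapos hKa
    have h1 := ha E₁' r₁' i₁' inferInstance hr₁' hE₁'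
    have h2 := ha' E₁ r₁ i₁ inferInstance hr₁ hE₁
    have habz : (a : ℤ) + (b : ℤ) = (r₁' : ℤ) := by exact_mod_cast hab
    have h3 : Curv2.deg k X E₁' r₁' * (r₁ : ℤ) = Curv2.deg k X E₁ r₁ * (r₁' : ℤ) :=
      le_antisymm h1 h2
    rw [hdeg, ← habz] at h3
    nlinarith
  exact ⟨Abelian.monoLift i₁ i₁' hg, Abelian.monoLift_comp i₁ i₁' hg⟩

/-- **S16470**. -/
theorem maxDestab (hdim : topologicalKrullDim X ≤ 1) (r : ℕ) (hr : 0 < r) (E : X.Modules)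
    (hE : FlatMod.IsFinLocFreeOfRank r E) :
    (∃ (E₁ : X.Modules) (r₁ : ℕ) (i₁ : E₁ ⟶ E), Mono i₁ ∧ 0 < r₁ ∧
      FlatMod.IsFinLocFreeOfRank r₁ E₁ ∧ MaxSl k X E E₁ r₁ ∧ QuotLt k X r₁ i₁) ∧
    (∀ (E₁ E₁' : X.Modules) (r₁ r₁' : ℕ) (i₁ : E₁ ⟶ E) (i₁' : E₁' ⟶ E),
      Mono i₁ → 0 < r₁ → FlatMod.IsFinLocFreeOfRank r₁ E₁ → MaxSl k X E E₁ r₁ →
      QuotLt k X r₁ i₁ →
      Mono i₁' → 0 < r₁' → FlatMod.IsFinLocFreeOfRank r₁' E₁' → MaxSl k X E E₁' r₁' →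
      QuotLt k X r₁' i₁' → ∃ e : E₁ ≅ E₁', e.hom ≫ i₁' = i₁) := by
  constructor
  · obtain ⟨E₁, r₁, i₁, hi₁, hr₁, hE₁, ha, hb⟩ := exists_maxSlope k X hdim r hr E hE
    haveI := hi₁
    exact ⟨E₁, r₁, i₁, hi₁, hr₁, hE₁, ha, quotLt_of_maxSlope k X hdim hE i₁ hE₁ ha hb⟩
  · intro E₁ E₁' r₁ r₁' i₁ i₁' hi₁ hr₁ hE₁ ha hq hi₁' hr₁' hE₁' ha' hq'
    haveI := hi₁
    haveI := hi₁'
    obtain ⟨u, hu⟩ := factor_of_maxProp k X hdim hE hr₁ hr₁' i₁ i₁' hE₁ hE₁' ha hq ha'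
    obtain ⟨v, hv⟩ := factor_of_maxProp k X hdim hE hr₁' hr₁ i₁' i₁ hE₁' hE₁ ha' hq' ha
    refine ⟨⟨v, u, ?_, ?_⟩, hv⟩
    · rw [← cancel_mono i₁, Category.assoc, hu, hv, Category.id_comp]
    · rw [← cancel_mono i₁', Category.assoc, hv, hu, Category.id_comp]

end Groth.Agent.H5.Curve4
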